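import Groth.Agent.Sga4h.BidLoc48
import Groth.Agent.Sga4h.BidCmp538
import Groth.Agent.Sga4h.BidGlobHSD
import Groth.Agent.Sga4h.BidRed538Et
import Groth.Agent.Sga4h.BidRed538Retr
import Groth.Agent.S3138

/-!
# Reflexivity of constructible complexes on smooth schemes over a separably closed field

The form of local biduality used here: reflexivity for the standard duality data.
-/

set_option autoImplicit false
universe u

open CategoryTheory CategoryTheory.Limits AlgebraicGeometry

namespace Groth.Agent.Sga2lef.H93.ReflSm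

attribute [local instance] HasDerivedCategory.standard

/-- **Local biduality**: complexes in `D^b_c` on a smooth scheme over a separably closed field are reflexive. -/
theorem refl_of_isDbc (k : Type u) [Field k] [IsSepClosed k] (m : ℕ) (hm : (m : k) ≠ 0)
    {X : Scheme.{u}} (a : X ⟶ Spec (CommRingCat.of k)) [Smooth a]
    (E : CochainComplex (EtModW.Mod (ULift.{u + 1} (ZMod m)) X) ℤ)
    (hE : EtModD.IsDbc (DerivedCategory.Q.obj E)) :
    (Groth.Agent.Sga4h.BidRed538Main.stdDual (ULift.{u + 1} (ZMod m)) X).Refl E := by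
  have hm0 : 0 < m := Nat.pos_of_ne_zero fun h => hm (by rw [h, Nat.cast_zero])
  have : NeZero m := ⟨hm0.ne'⟩
  have : Finite (ULift.{u + 1} (ZMod m)) := inferInstance
  exact Groth.Agent.Sga4h.BidRed538Asm.refl_of_smooth (Λ := ULift.{u + 1} (ZMod m))
    (Groth.Agent.Sga4h.BidRed538Et.etRefl _)
    (fun w _ _ F => Groth.Agent.Sga4h.BidRed538Retr.exists_retract w F) k
    (fun d E hE => Groth.Agent.Sga4h.BidLoc48.hP_of hm0
      (fun k _ _ hk d => Groth.Agent.S3138.finCoh_It hm0 k hk d)
      Groth.Agent.Sga4h.BidGlobHSD.hSD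
      (fun X X' g hX hg => Groth.Agent.Sga4h.BidCmp538.loc X X' g hX hg) k hm d E hE)
    a E hE

end Groth.Agent.Sga2lef.H93.ReflSm
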