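import Groth.Agent.Sga2lef.H93.MVCoh
import Groth.Agent.EtpbcA.ArtinMain

/-!
# Relative affine vanishing for the complement of `q + 1` equations

`X` locally of finite type over a field `K`, all points of transcendence degree `≤ a`, `z` a point of transcendence
degree `≥ e`, `d : D ⟶ X` the inclusion of a union of `q + 1` basic open subschemes: `(R^b d_* d^* F)_z = 0` if
`a + q < e + b`.
-/

set_option autoImplicit false
universe u

open CategoryTheory CategoryTheory.Limits AlgebraicGeometry Opposite

namespace Groth.Agent.Sga2lef.H93.ArtinQ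

theorem isAffineHom_of_range {X D : Scheme.{u}} (d : D ⟶ X) [IsOpenImmersion d] (f : Γ(X, ⊤))
    (hd : Set.range d = (X.basicOpen f : Set X)) : IsAffineHom d := by
  have h : Set.range d = Set.range (X.basicOpen f).ι := by rw [hd, Scheme.Opens.range_ι]
  have h1 : d = (IsOpenImmersion.isoOfRangeEq d (X.basicOpen f).ι h).hom ≫ (X.basicOpen f).ι :=
    (IsOpenImmersion.isoOfRangeEq_hom_fac d (X.basicOpen f).ι h).symm
  rw [h1]
  infer_instance

/-- **Relative affine vanishing for the complement of `q + 1` equations.** -/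
theorem not_mem_supp (K : Type u) [Field K] {X : Scheme.{u}} (aX : X ⟶ Spec (CommRingCat.of K))
    [LocallyOfFiniteType aX] [IsLocallyNoetherian X] (F : EtCoh.Ab X) (hF : EtCoh.IsTorsion F) (a e : ℕ)
    (ha : ∀ x : X, EtPBC.ResTrdegLE aX x a) (z : X) (hz : ∀ b, EtPBC.ResTrdegLE aX z b → e ≤ b) (q : ℕ) :
    ∀ (f : Fin (q + 1) → Γ(X, ⊤)) {D : Scheme.{u}} (d : D ⟶ X) [IsOpenImmersion d]
      (_ : Set.range d = ⋃ i, (X.basicOpen (f i) : Set X)) (b : ℕ) (_ : a + q < e + b),
      z ∉ EtPBC.supp ((EtCoh.Rpush d b).obj ((EtCoh.pull d).obj F)) := by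
  induction q with
  | zero =>
    intro f D d _ hd b hb
    have hd' : Set.range d = (X.basicOpen (f 0) : Set X) := by
      rw [hd]
      ext x
      simp
    have := isAffineHom_of_range d (f 0) hd'
    refine EtpbcA.Artin.not_mem_supp_Rpush_of_trdeg K (d ≫ aX) aX d rfl a e b (by lia) z hz
      (fun m _ => EtpbcA.Artin.PA_all m) _ (Etcore.Torsion.isTorsion_pull d F hF) ?_
    intro x _
    exact (EtpbcA.Artin.resTrdegLE_comp_iff aX d x (EtpbcA.Artin.algAt_of_surjectiveOnStalks d x) a).2 (ha (d x))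
  | succ q ih =>
    intro f D d _ hd b hb
    obtain _ | b := b
    · exfalso
      have := hz a (ha z)
      lia
    let U : X.Opens := ⨆ i : Fin (q + 1), X.basicOpen (f i.castSucc)
    let V : X.Opens := X.basicOpen (f (Fin.last (q + 1)))
    let W : X.Opens := ⨆ i : Fin (q + 1), X.basicOpen (f i.castSucc * f (Fin.last (q + 1)))
    have hU : Set.range U.ι = ⋃ i : Fin (q + 1), (X.basicOpen (f i.castSucc) : Set X) := by
      rw [Scheme.Opens.range_ι]
      simp [U]
    have hV : Set.range V.ι = (X.basicOpen (f (Fin.last (q + 1))) : Set X) := Scheme.Opens.range_ι _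
    have hW : Set.range W.ι = ⋃ i : Fin (q + 1), (X.basicOpen (f i.castSucc * f (Fin.last (q + 1))) : Set X) := by
      rw [Scheme.Opens.range_ι]
      simp [W]
    refine MVCoh.not_mem_supp_union U.ι V.ι W.ι d ?_ ?_ F b z
      (ih (fun i => f i.castSucc) U.ι hU (b + 1) (by lia)) ?_
      (ih (fun i => f i.castSucc * f (Fin.last (q + 1))) W.ι hW b (by lia))
    · rw [hU, hV, hW, Set.iUnion_inter]
      refine Set.iUnion_congr fun i => ?_
      rw [Scheme.basicOpen_mul]
      rfl
    · rw [hU, hV, hd]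
      ext x
      simp only [Set.mem_iUnion, Set.mem_union]
      constructor
      · rintro ⟨i, hi⟩
        induction i using Fin.lastCases with
        | last => exact Or.inr hi
        | cast i => exact Or.inl ⟨i, hi⟩
      · rintro (⟨i, hi⟩ | hi)
        · exact ⟨_, hi⟩
        · exact ⟨_, hi⟩
    · have := isAffineHom_of_range V.ι _ hV
      refine EtpbcA.Artin.not_mem_supp_Rpush_of_trdeg K (V.ι ≫ aX) aX V.ι rfl a e (b + 1) (by lia) z hz
        (fun m _ => EtpbcA.Artin.PA_all m) _ (Etcore.Torsion.isTorsion_pull V.ι F hF) ?_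
      intro x _
      exact (EtpbcA.Artin.resTrdegLE_comp_iff aX V.ι x
        (EtpbcA.Artin.algAt_of_surjectiveOnStalks V.ι x) a).2 (ha (V.ι x))

end Groth.Agent.Sga2lef.H93.ArtinQ
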