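import Groth.Agent.Sga7.H759.GoodNhdP
import Groth.Agent.Sga2lef.H93.ArtinQ

/-!
# Good neighbourhoods on smooth affine schemes over a field of characteristic zero
-/

set_option autoImplicit false
universe u
open CategoryTheory CategoryTheory.Limits AlgebraicGeometry Opposite

namespace Groth.Agent.Sga2lef.H93.GoodNhd

theorem artinQ : Groth.Agent.Sga7.H759.GoodNhdA.ArtinQ.{u} := by
  intro K _ X D aX _ _ F hF a e ha z hz q f d _ hd b hb
  exact ArtinQ.not_mem_supp K aX F hF a e ha z hz q f d hd b hb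

/-- **Good neighbourhoods** on affine schemes of finite type over a field of characteristic zero. -/
theorem exists_open (K : Type u) [Field K] [CharZero K] (A : Type u) [CommRing A] [Algebra K A]
    [Algebra.FiniteType K A] (n : ℕ) [NeZero n] (q : ℕ) (F : Fin q → A) (z : Spec (CommRingCat.of A)) (c : ℕ)
    (hc : (z : PrimeSpectrum A).asIdeal.height = c) (U : (Spec (CommRingCat.of A)).Opens)
    (hU : ∀ x : Spec (CommRingCat.of A), x ∈ U ↔ ∃ i, F i ∉ (x : PrimeSpectrum A).asIdeal) :
    ∃ V : (Spec (CommRingCat.of A)).Opens, z ∈ V ∧ ∀ b, c + q ≤ b → ∀ x ∈ V, z ⤳ x →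
      x ∉ EtPBC.supp ((EtCoh.Rpush U.ι b).obj (EtCoh.const U (ZMod n))) :=
  Groth.Agent.Sga7.H759.GoodNhdP.exists_nhd_spec artinQ K A n q F z c hc U hU

end Groth.Agent.Sga2lef.H93.GoodNhd
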