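import Groth.Agent.Sga2lef.H93.LocFT
import Groth.Agent.Sga2lef.H101.FTDepth
import Groth.Agent.Sga2lef.H134.DepthAt
import Groth.Agent.Sga2lef.H93.GoodNhd
import Groth.Agent.EtpbcA.ArtinP1
import Mathlib.RingTheory.Ideal.KrullsHeightTheorem

/-!
# Depth of quotients of smooth algebras over a separably closed field of characteristic zero

`ft`: the finite type statement `FTDepth.FT k n` for `k` separably closed of characteristic zero.
-/

set_option autoImplicit false
universe u

open CategoryTheory CategoryTheory.Limits AlgebraicGeometry Opposite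

namespace Groth.Agent.Sga2lef.H93.FTAlg

/-- The dimension of the local ring at a point of an open subscheme of an affine scheme. -/
theorem ringKrullDim_stalk {A : Type u} [CommRing A] (V : (Spec (CommRingCat.of A)).Opens) (y : V.toScheme) :
    ringKrullDim (V.toScheme.presheaf.stalk y) = ((V.ι y : Spec (CommRingCat.of A)) : PrimeSpectrum A).asIdeal.height := by
  have e : V.toScheme.presheaf.stalk y ≅ (Spec (CommRingCat.of A)).presheaf.stalk (V.ι y) :=
    (asIso (V.ι.stalkMap y)).symm
  rw [ringKrullDim_eq_of_ringEquiv e.commRingCatIsoToRingEquiv]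
  let _ : Algebra A ((Spec (CommRingCat.of A)).presheaf.stalk (V.ι y)) :=
    StructureSheaf.stalkAlgebra A (V.ι y)
  have : IsLocalization.AtPrime ((Spec (CommRingCat.of A)).presheaf.stalk (V.ι y))
      ((V.ι y : Spec (CommRingCat.of A)) : PrimeSpectrum A).asIdeal :=
    StructureSheaf.IsLocalization.to_stalk A (V.ι y)
  exact IsLocalization.AtPrime.ringKrullDim_eq_height
    ((V.ι y : Spec (CommRingCat.of A)) : PrimeSpectrum A).asIdeal _

theorem range_quot {A : Type u} [CommRing A] {q : ℕ} (F : Fin q → A) (x : Spec (CommRingCat.of A)) :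
    x ∈ (Set.range (Spec.map (CommRingCat.ofHom (Ideal.Quotient.mk (Ideal.span (Set.range F))))))ᶜ ↔
      ∃ i, F i ∉ (x : PrimeSpectrum A).asIdeal := by
  have h : Set.range (Spec.map (CommRingCat.ofHom (Ideal.Quotient.mk (Ideal.span (Set.range F))))) =
      PrimeSpectrum.zeroLocus (Set.range F) := by
    have h1 := range_comap_of_surjective (A ⧸ Ideal.span (Set.range F)) (Ideal.Quotient.mk (Ideal.span (Set.range F)))
      Ideal.Quotient.mk_surjective
    rw [Ideal.mk_ker, PrimeSpectrum.zeroLocus_span] at h1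
    exact h1
  rw [Set.mem_compl_iff, h]
  change ¬ (Set.range F ⊆ _) ↔ _
  rw [Set.range_subset_iff]
  push Not
  rfl

theorem ft (k : Type u) [Field k] [IsSepClosed k] [CharZero k] (n : ℕ) [NeZero n] :
    Groth.Agent.Sga2lef.H101.FTDepth.FT k n := by
  intro A _ _ _ q F z d hd
  have hn : (n : k) ≠ 0 := Nat.cast_ne_zero.2 (NeZero.ne n)
  have hN : IsNoetherianRing A := Algebra.FiniteType.isNoetherianRing k A
  let i : Spec (CommRingCat.of (A ⧸ Ideal.span (Set.range F))) ⟶ Spec (CommRingCat.of A) :=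
    Spec.map (CommRingCat.ofHom (Ideal.Quotient.mk (Ideal.span (Set.range F))))
  have hi : IsClosedImmersion i := IsClosedImmersion.spec_of_surjective _ Ideal.Quotient.mk_surjective
  let x : Spec (CommRingCat.of A) := i z
  obtain ⟨c, hc⟩ : ∃ c : ℕ, (x : PrimeSpectrum A).asIdeal.height = c :=
    ENat.ne_top_iff_exists.1 (Ideal.height_ne_top (x : PrimeSpectrum A).isPrime.ne_top) |>.imp fun _ h => h.symm
  have hdc : d ≤ c := by
    have h1 : (d : ℕ∞) ≤ (x : PrimeSpectrum A).asIdeal.height := hd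
    rw [hc] at h1
    exact_mod_cast h1
  let U : (Spec (CommRingCat.of A)).Opens := ⟨(Set.range i)ᶜ, i.isClosedEmbedding.isClosed_range.isOpen_compl⟩
  have hU : ∀ x : Spec (CommRingCat.of A), x ∈ U ↔ ∃ i, F i ∉ (x : PrimeSpectrum A).asIdeal := range_quot F
  obtain ⟨V, hxV, hV⟩ := GoodNhd.exists_open k A n q F x c hc U hU
  let s : Spec (CommRingCat.of A) ⟶ Spec (CommRingCat.of k) := Spec.map (CommRingCat.ofHom (algebraMap k A))
  have hs : Smooth s := by
    rw [HasRingHomProperty.Spec_iff (P := @Smooth)]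
    exact RingHom.smooth_algebraMap.2 inferInstance
  let a : V.toScheme ⟶ Spec (CommRingCat.of k) := V.ι ≫ s
  have ha : Smooth a := inferInstance
  have hVL : IsLocallyNoetherian V.toScheme := isLocallyNoetherian_of_isOpenImmersion V.ι
  have hVC : CompactSpace V.toScheme :=
    isCompact_iff_compactSpace.1 (TopologicalSpace.NoetherianSpace.isCompact (V : Set (Spec (CommRingCat.of A))))
  have hVN : IsNoetherian V.toScheme := {}
  let C : V.toScheme.Opens := V.ι ⁻¹ᵁ ⟨(closure {x})ᶜ, isClosed_closure.isOpen_compl⟩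
  let iV : pullback i V.ι ⟶ V.toScheme := pullback.snd i V.ι
  let g : pullback i V.ι ⟶ Spec (CommRingCat.of (A ⧸ Ideal.span (Set.range F))) := pullback.fst i V.ι
  have hiV : IsClosedImmersion iV := inferInstance
  have hC : ∀ y : V.toScheme, y ∉ Set.range C.ι → x ⤳ V.ι y := by
    intro y hy
    rw [Scheme.Opens.range_ι] at hy
    have h1 : ¬ (V.ι y ∉ closure {x}) := hy
    rw [not_not] at h1
    exact specializes_iff_mem_closure.2 h1
  have key : EtDepth.DepthGE (pullback.fst iV C.ι) (EtCoh.const (pullback i V.ι) (ZMod n)) (c - q) := by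
    refine LocFT.depthGE k n hn a iV C.ι (pullback.snd iV C.ι) (pullback.fst iV C.ι)
      (IsPullback.of_hasPullback iV C.ι) (V.ι ⁻¹ᵁ U) ?_ c q ?_ ?_
    · change V.ι ⁻¹' (Set.range i)ᶜ = (Set.range iV)ᶜ
      rw [Set.preimage_compl]
      congr 1
      exact (Scheme.Pullback.range_snd i V.ι).symm
    · intro y hy
      rw [ringKrullDim_stalk, ← WithBot.coe_natCast, ← hc]
      refine WithBot.coe_le_coe.2 (Ideal.height_mono ?_)
      exact (PrimeSpectrum.le_iff_specializes _ _).2 (hC y hy)
    · intro b hb y hy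
      have h1 := hV b hb (V.ι y) y.2 (hC y hy)
      rw [EtpbcA.Artin.mem_supp_Rpush_iff_of_isPullback V.ι U.ι (V.ι ∣_ U) (V.ι ⁻¹ᵁ U).ι
        (isPullback_morphismRestrict V.ι U) (EtCoh.const U (ZMod n)) b y] at h1
      rwa [EtpbcA.Artin.supp_congr ((EtCoh.Rpush (V.ι ⁻¹ᵁ U).ι b).mapIso
        (EtCore.pullConst (V.ι ∣_ U) (ZMod n)))] at h1
  obtain ⟨z', hz1, hz2⟩ := Scheme.Pullback.exists_preimage_pullback (f := i) (g := V.ι) z ⟨x, hxV⟩ rfl
  have hCq : QuasiCompact C.ι := inferInstance
  have hq : QuasiCompact (pullback.fst iV C.ι) := inferInstance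
  have h1 := (Groth.Agent.S3365.result (pullback.fst iV C.ι) _ (c - q)).1 key z' (by
    intro hmem
    rw [Scheme.Pullback.range_fst, Scheme.Opens.range_ι] at hmem
    have h2 : V.ι (iV z') ∉ closure {x} := hmem
    have h3 : V.ι (iV z') = x := congrArg V.ι hz2
    rw [h3] at h2
    exact h2 (subset_closure rfl))
  have h2 := Groth.Agent.Sga2lef.H134.DepthAt.DepthAtGE.of_iso (EtCore.pullConst g (ZMod n)).symm h1
  rw [Groth.Agent.Sga2lef.H134.DepthAt.depthAtGE_pull_iff g] at h2
  have h3 : g z' = z := hz1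
  rw [h3] at h2
  exact Groth.Agent.Sga2lef.H134.DepthAt.DepthAtGE.mono h2 (by lia)

end Groth.Agent.Sga2lef.H93.FTAlg
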