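import Groth.Agent.Etcore.DerLES
import Mathlib.Algebra.Homology.DerivedCategory.Ext.ExactSequences
import Mathlib.Algebra.Homology.DerivedCategory.Ext.EnoughInjectives
import Mathlib.CategoryTheory.Adjunction.Additive

/-!
# Depth along a closed part of an abelian category, abstractly

`r : C ⥤ C'` exact with a fully faithful right adjoint `t` (restriction to an open subscheme and direct image).
`ExtDep r n G`: `Ext^b(Q, G) = 0` for `b < n` and all `Q` with `r Q = 0`.
`Con adj n G`: `G ⟶ t r G` is a monomorphism if `n ≥ 1`, an isomorphism if `n ≥ 2`, and `R^p t (r G) = 0` for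
`1 ≤ p`, `p + 1 < n`.

Main result: `extDep_iff_con`.
-/

set_option autoImplicit false
set_option linter.unusedSectionVars false

open CategoryTheory CategoryTheory.Limits CategoryTheory.Abelian

universe w v v' u u'

namespace Groth.Agent.Sga2lef.H93.AbsDepth

section ExtDep

variable {C : Type u} [Category.{v} C] [Abelian C] {C' : Type u'} [Category.{v'} C']

/-- Vanishing of `Ext^b(Q, G)` for `b < n` and `Q` killed by `r`. -/
def ExtDep [HasExt.{w} C] (r : C ⥤ C') (n : ℕ) (G : C) : Prop :=
  ∀ Q : C, IsZero (r.obj Q) → ∀ b : ℕ, b < n → ∀ e : Ext.{w} Q G b, e = 0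

variable [HasExt.{w} C] {r : C ⥤ C'}

theorem ExtDep.le {n m : ℕ} {G : C} (h : ExtDep.{w} r n G) (hm : m ≤ n) : ExtDep.{w} r m G :=
  fun Q hQ b hb e => h Q hQ b (lt_of_lt_of_le hb hm) e

theorem ExtDep.of_iso {n : ℕ} {G G' : C} (e : G ≅ G') (h : ExtDep.{w} r n G) :
    ExtDep.{w} r n G' := by
  intro Q hQ b hb x
  have h1 : x = (x.comp (Ext.mk₀ e.inv) (add_zero b)).comp (Ext.mk₀ e.hom) (add_zero b) := by
    rw [Ext.comp_assoc_of_third_deg_zero, Ext.mk₀_comp_mk₀, e.inv_hom_id, Ext.comp_mk₀_id]
  rw [h1, h Q hQ b hb (x.comp (Ext.mk₀ e.inv) (add_zero b)), Ext.zero_comp]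

variable {S : ShortComplex C} (hS : S.ShortExact)

include hS in
/-- The middle term. -/
theorem ExtDep.middle {n : ℕ} (h₁ : ExtDep.{w} r n S.X₁) (h₃ : ExtDep.{w} r n S.X₃) : ExtDep.{w} r n S.X₂ := by
  intro Q hQ b hb x
  obtain ⟨y, rfl⟩ := Ext.covariant_sequence_exact₂ Q hS x (h₃ Q hQ b hb _)
  rw [h₁ Q hQ b hb y, Ext.zero_comp]

include hS in
/-- The third term. -/
theorem ExtDep.third {n : ℕ} (h₂ : ExtDep.{w} r n S.X₂) (h₁ : ExtDep.{w} r (n + 1) S.X₁) : ExtDep.{w} r n S.X₃ := by
  intro Q hQ b hb x
  obtain ⟨y, rfl⟩ := Ext.covariant_sequence_exact₃ Q hS x rfl (h₁ Q hQ (b + 1) (by lia) _)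
  rw [h₂ Q hQ b hb y, Ext.zero_comp]

include hS in
/-- The first term. -/
theorem ExtDep.first {n : ℕ} (h₂ : ExtDep.{w} r (n + 1) S.X₂) (h₃ : ExtDep.{w} r n S.X₃) :
    ExtDep.{w} r (n + 1) S.X₁ := by
  intro Q hQ b hb x
  obtain _ | b := b
  · obtain ⟨f, rfl⟩ := Ext.mk₀_bijective _ _ |>.2 x
    have h := h₂ Q hQ 0 (by lia) (Ext.mk₀ (f ≫ S.f))
    have h' : f ≫ S.f = 0 := by
      rw [← Ext.mk₀_zero] at h
      exact (Ext.mk₀_bijective _ _).1 h
    have := hS.mono_f
    have h'' : f = 0 := by rw [← cancel_mono S.f, h', zero_comp]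
    rw [h'', Ext.mk₀_zero]
  · obtain ⟨y, rfl⟩ := Ext.covariant_sequence_exact₁ Q hS x (h₂ Q hQ (b + 1) hb _) rfl
    rw [h₃ Q hQ b (by lia) y, Ext.zero_comp]

end ExtDep

variable {C : Type u} [Category.{v} C] [Abelian C] {C' : Type u'} [Category.{v'} C'] [Abelian C']
  {r : C ⥤ C'} {t : C' ⥤ C} (adj : r ⊣ t)

/-- The depth condition in terms of direct images. -/
def Con [EnoughInjectives C'] [t.Additive] (n : ℕ) (G : C) : Prop :=
  (1 ≤ n → Mono (adj.unit.app G)) ∧ (2 ≤ n → IsIso (adj.unit.app G)) ∧
    ∀ p : ℕ, 1 ≤ p → p + 1 < n → IsZero ((t.rightDerived p).obj (r.obj G))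

include adj in
theorem hom_eq_zero_of_mono [t.Additive] {Q G : C} (hQ : IsZero (r.obj Q)) (hG : Mono (adj.unit.app G)) (f : Q ⟶ G) :
    f = 0 := by
  have h1 : r.map f = 0 := hQ.eq_of_src _ _
  have h2 : f ≫ adj.unit.app G = adj.unit.app Q ≫ t.map (r.map f) := adj.unit.naturality f
  rw [h1, t.map_zero, comp_zero] at h2
  rw [← cancel_mono (adj.unit.app G), h2, zero_comp]

section Unit

variable [IsIso adj.counit]

instance isIso_map_unit (G : C) : IsIso (r.map (adj.unit.app G)) := by
  have h : r.map (adj.unit.app G) ≫ adj.counit.app (r.obj G) = 𝟙 _ := adj.left_triangle_components G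
  have h2 : r.map (adj.unit.app G) = inv (adj.counit.app (r.obj G)) := by
    rw [← cancel_mono (adj.counit.app (r.obj G)), h, IsIso.inv_hom_id]
  rw [h2]
  infer_instance

instance isIso_unit_obj (Y : C') : IsIso (adj.unit.app (t.obj Y)) := by
  have h : adj.unit.app (t.obj Y) ≫ t.map (adj.counit.app Y) = 𝟙 _ := adj.right_triangle_components Y
  have h2 : adj.unit.app (t.obj Y) = inv (t.map (adj.counit.app Y)) := by
    rw [← cancel_mono (t.map (adj.counit.app Y)), h, IsIso.inv_hom_id]
  rw [h2]
  infer_instance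

/-- The kernel of the unit is killed by `r`. -/
theorem isZero_kernel_unit [PreservesFiniteLimits r] [r.PreservesZeroMorphisms] (G : C) :
    IsZero (r.obj (kernel (adj.unit.app G))) := by
  have h1 : r.map (kernel.ι (adj.unit.app G)) = 0 := by
    rw [← cancel_mono (r.map (adj.unit.app G)), ← r.map_comp, kernel.condition, r.map_zero, zero_comp]
  have h2 : Mono (r.map (kernel.ι (adj.unit.app G))) := inferInstance
  rw [IsZero.iff_id_eq_zero, ← cancel_mono (r.map (kernel.ι (adj.unit.app G))), h1, comp_zero, comp_zero]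

theorem mono_unit_of_extDep [HasExt.{w} C] [PreservesFiniteLimits r] [r.PreservesZeroMorphisms] {G : C}
    (h : ExtDep.{w} r 1 G) : Mono (adj.unit.app G) := by
  have h1 := h _ (isZero_kernel_unit adj G) 0 (by lia) (Ext.mk₀ (kernel.ι (adj.unit.app G)))
  rw [← Ext.mk₀_zero] at h1
  have h2 : kernel.ι (adj.unit.app G) = 0 := (Ext.mk₀_bijective _ _).1 h1
  exact Preadditive.mono_of_kernel_zero h2

end Unit

section Step

variable [PreservesFiniteLimits r] [PreservesFiniteColimits r] [t.Additive] [EnoughInjectives C']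

omit [t.Additive] [EnoughInjectives C'] in
include adj in
/-- The injective object `t I`. -/
theorem extDep_injective [HasExt.{w} C] (I : C') [Injective I] (n : ℕ) : ExtDep.{w} r n (t.obj I) := by
  intro Q hQ b _ e
  have : Injective (t.obj I) := adj.map_injective I inferInstance
  obtain _ | b := b
  · obtain ⟨f, rfl⟩ := (Ext.mk₀_bijective _ _).2 e
    have h : f = 0 := (adj.homEquiv Q I).symm.injective (hQ.eq_of_src _ _)
    rw [h, Ext.mk₀_zero]
  · exact Ext.eq_zero_of_injective e

/-- The embedding `G ⟶ t I`. -/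
noncomputable def emb (G : C) : G ⟶ t.obj (Injective.under (r.obj G)) :=
  adj.unit.app G ≫ t.map (Injective.ι (r.obj G))

theorem mono_emb (G : C) [Mono (adj.unit.app G)] : Mono (emb adj G) := by
  have := adj.rightAdjoint_preservesLimits
  have : Mono (t.map (Injective.ι (r.obj G))) := inferInstance
  exact mono_comp _ _

/-- The short exact sequence `0 ⟶ G ⟶ t I ⟶ G' ⟶ 0`. -/
noncomputable abbrev seq (G : C) : ShortComplex C :=
  ShortComplex.mk (emb adj G) (cokernel.π (emb adj G)) (cokernel.condition _)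

theorem shortExact_seq (G : C) [Mono (adj.unit.app G)] : (seq adj G).ShortExact :=
  have := mono_emb adj G
  { exact := ShortComplex.exact_cokernel _
    mono_f := mono_emb adj G
    epi_g := inferInstance }

instance : r.Additive := Functor.additive_of_preserves_binary_products r

/-- The units as a morphism of short complexes. -/
noncomputable def unitSC (S : ShortComplex C) : S ⟶ (S.map r).map t where
  τ₁ := adj.unit.app S.X₁
  τ₂ := adj.unit.app S.X₂
  τ₃ := adj.unit.app S.X₃
  comm₁₂ := (adj.unit.naturality S.f).symm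
  comm₂₃ := (adj.unit.naturality S.g).symm

variable [IsIso adj.counit]

section

variable (G : C) [Mono (adj.unit.app G)]

omit [IsIso adj.counit] in
theorem shortExact_map : ((seq adj G).map r).ShortExact := (shortExact_seq adj G).map_of_exact r

theorem exact_map_map : (((seq adj G).map r).map t).Exact ∧ Mono (((seq adj G).map r).map t).f := by
  have := adj.rightAdjoint_preservesLimits
  have h := shortExact_map adj G
  have := h.mono_f
  exact ⟨h.exact.map_of_mono_of_preservesKernel t inferInstance inferInstance,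
    inferInstanceAs (Mono (t.map ((seq adj G).map r).f))⟩

instance : IsIso (adj.unit.app (seq adj G).X₂) := isIso_unit_obj adj _

/-- The unit at the third term is a monomorphism iff the unit at `G` is an isomorphism. -/
theorem mono_unit_third_iff : Mono (adj.unit.app (seq adj G).X₃) ↔ IsIso (adj.unit.app G) := by
  have hS := shortExact_seq adj G
  obtain ⟨h1, h2⟩ := exact_map_map adj G
  constructor
  · intro h
    have h3 : Epi (unitSC adj (seq adj G)).τ₁ :=
      ShortComplex.epi_of_mono_of_epi_of_mono (unitSC adj (seq adj G)) hS.exact h2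
        (inferInstanceAs (Epi (adj.unit.app (seq adj G).X₂))) h
    have h4 : Epi (adj.unit.app G) := h3
    exact isIso_of_mono_of_epi _
  · intro h
    exact ShortComplex.mono_of_epi_of_epi_of_mono (unitSC adj (seq adj G)) h1 hS.epi_g
      (inferInstanceAs (Epi (adj.unit.app G))) (inferInstanceAs (Mono (adj.unit.app (seq adj G).X₂)))

/-- The unit at the third term is an epimorphism iff `R¹ t (r G) = 0`. -/
theorem epi_unit_third_iff :
    Epi (adj.unit.app (seq adj G).X₃) ↔ IsZero ((t.rightDerived 1).obj (r.obj G)) := by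
  have := adj.rightAdjoint_preservesLimits
  have hS := shortExact_seq adj G
  have hS' := shortExact_map adj G
  have : Injective ((seq adj G).map r).X₂ :=
    Injective.of_iso (asIso (adj.counit.app (Injective.under (r.obj G)))).symm
      (inferInstanceAs (Injective (Injective.under (r.obj G))))
  obtain ⟨e⟩ := Groth.Agent.Etcore.DerLES.nonempty_iso_one_of_injective t hS'
  have hsq : (seq adj G).g ≫ adj.unit.app (seq adj G).X₃ =
      adj.unit.app (seq adj G).X₂ ≫ t.map ((seq adj G).map r).g := adj.unit.naturality (seq adj G).g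
  have h1 : Epi (adj.unit.app (seq adj G).X₃) ↔ Epi (t.map ((seq adj G).map r).g) := by
    constructor
    · intro h
      have h2 : Epi ((seq adj G).g ≫ adj.unit.app (seq adj G).X₃) := epi_comp' hS.epi_g h
      rw [hsq] at h2
      exact @epi_of_epi _ _ _ _ _ (adj.unit.app (seq adj G).X₂) (t.map ((seq adj G).map r).g) h2
    · intro h
      have h2 : Epi (adj.unit.app (seq adj G).X₂ ≫ t.map ((seq adj G).map r).g) :=
        epi_comp' (inferInstanceAs (Epi (adj.unit.app (seq adj G).X₂))) h
      rw [← hsq] at h2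
      exact @epi_of_epi _ _ _ _ _ (seq adj G).g (adj.unit.app (seq adj G).X₃) h2
  rw [h1]
  constructor
  · intro h
    exact (isZero_cokernel_of_epi (t.map ((seq adj G).map r).g)).of_iso e
  · intro h
    exact Preadditive.epi_of_isZero_cokernel _ (h.of_iso e.symm)

/-- Dimension shifting. -/
theorem nonempty_iso_succ (q : ℕ) :
    Nonempty ((t.rightDerived (q + 2)).obj (r.obj G) ≅ (t.rightDerived (q + 1)).obj (r.obj (seq adj G).X₃)) := by
  have hS' := shortExact_map adj G
  have : Injective ((seq adj G).map r).X₂ :=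
    Injective.of_iso (asIso (adj.counit.app (Injective.under (r.obj G)))).symm
      (inferInstanceAs (Injective (Injective.under (r.obj G))))
  exact Groth.Agent.Etcore.DerLES.nonempty_iso_of_injective t hS' q

theorem con_third_iff (n : ℕ) : Con adj n (seq adj G).X₃ ↔ Con adj (n + 1) G := by
  constructor
  · rintro ⟨h1, h2, h3⟩
    refine ⟨fun _ => inferInstance, fun hn => (mono_unit_third_iff adj G).1 (h1 (by lia)), fun p hp hpn => ?_⟩
    obtain ⟨p, rfl⟩ : ∃ k, p = k + 1 := ⟨p - 1, by lia⟩
    obtain _ | p := p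
    · have := h2 (by lia)
      exact (epi_unit_third_iff adj G).1 inferInstance
    · obtain ⟨e⟩ := nonempty_iso_succ adj G p
      exact (h3 (p + 1) (by lia) (by lia)).of_iso e
  · rintro ⟨-, h2, h3⟩
    refine ⟨fun hn => (mono_unit_third_iff adj G).2 (h2 (by lia)), fun hn => ?_, fun p hp hpn => ?_⟩
    · have := (mono_unit_third_iff adj G).2 (h2 (by lia))
      have := (epi_unit_third_iff adj G).2 (h3 1 le_rfl (by lia))
      exact isIso_of_mono_of_epi _
    · obtain ⟨p, rfl⟩ : ∃ k, p = k + 1 := ⟨p - 1, by lia⟩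
      obtain ⟨e⟩ := nonempty_iso_succ adj G p
      exact (h3 (p + 2) (by lia) (by lia)).of_iso e.symm

omit [IsIso adj.counit] in
theorem extDep_third_iff [HasExt.{w} C] (n : ℕ) : ExtDep.{w} r n (seq adj G).X₃ ↔ ExtDep.{w} r (n + 1) G := by
  have hS := shortExact_seq adj G
  exact ⟨fun h => ExtDep.first hS (extDep_injective adj _ _) h,
    fun h => ExtDep.third hS (extDep_injective adj _ _) h⟩

end

/-- **Depth in terms of `Ext` and in terms of direct images.** -/
theorem extDep_iff_con [HasExt.{w} C] (n : ℕ) (G : C) : ExtDep.{w} r n G ↔ Con adj n G := by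
  induction n generalizing G with
  | zero =>
    exact ⟨fun _ => ⟨fun h => by lia, fun h => by lia, fun p _ h => by lia⟩, fun _ Q _ b hb => by lia⟩
  | succ n ih =>
    constructor
    · intro h
      have := mono_unit_of_extDep adj (h.le (by lia : 1 ≤ n + 1))
      exact (con_third_iff adj G n).1 ((ih _).1 ((extDep_third_iff adj G n).2 h))
    · intro h
      have := h.1 (by lia)
      exact (extDep_third_iff adj G n).1 ((ih _).2 ((con_third_iff adj G n).2 h))

end Step

end Groth.Agent.Sga2lef.H93.AbsDepth
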