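import Groth.Agent.Sga4h.BidGlobU
import Groth.Agent.CohtopB.ExactDerAdj
import Groth.Agent.Sga2lef.H93.AbsDepth
import Mathlib.Algebra.Homology.DerivedCategory.TStructure

/-!
# Local duality vanishing, abstractly

`L ⊣ R` exact functors with `L` "extension by zero" and `R` "restriction to an open part".
* `isIso_counit_derivedAdj_of_homology`: the derived counit is an isomorphism at `K` if the counit is an isomorphism
  at every cohomology object of `K`;
* `hom_eq_zero`: no morphism from a complex `M` whose cohomology in degrees `> m` is supported in the open part to a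
  complex `W` in degrees `> m` whose restriction to the open part is zero;
* `subsingleton_hom_D`: `Hom(P, (D M)[i]) = 0` if `(D P)` is in degrees `≥ c`, is zero on the open part and
  `i + m < c`.
-/

set_option autoImplicit false
set_option backward.defeqAttrib.useBackward true
set_option backward.isDefEq.respectTransparency false
set_option linter.unusedSectionVars false

universe w w' w'' v v' u u' v₁ u₁

open CategoryTheory CategoryTheory.Limits CategoryTheory.Abelian Pretriangulated

attribute [-instance] Int.instConditionallyCompleteLinearOrder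

namespace Groth.Agent.Sga2lef.H93.AbsLD

section Counit

open Groth.Agent.CohtopB.ExactDerAdj DerivedCategory

variable {A : Type u} [Category.{v} A] [Abelian A] [HasDerivedCategory.{w} A]
  {B : Type u'} [Category.{v'} B] [Abelian B] [HasDerivedCategory.{w'} B]
  {L : B ⥤ A} {R : A ⥤ B} (adj : L ⊣ R) [L.Additive] [R.Additive]
  [PreservesFiniteLimits L] [PreservesFiniteColimits L]
  [PreservesFiniteLimits R] [PreservesFiniteColimits R]

/-- The counit of the adjunction on complexes is a quasi-isomorphism if the counit is an isomorphism on the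
cohomology. -/
theorem quasiIso_counit (K : CochainComplex A ℤ) (h : ∀ n, IsIso (adj.counit.app (K.homology n))) :
    QuasiIso ((LoccohB.MapAdj.mapComplexAdj adj (ComplexShape.up ℤ)).counit.app K) := by
  rw [quasiIso_iff]
  intro n
  rw [quasiIsoAt_iff_isIso_homologyMap]
  have h1 := NatTrans.app_homology adj.counit (K.sc n)
  have h2 : IsIso (ShortComplex.homologyMap ((K.sc n).mapNatTrans adj.counit)) := by
    have h3 : ShortComplex.homologyMap ((K.sc n).mapNatTrans adj.counit) =
        ((K.sc n).mapHomologyIso (R ⋙ L)).hom ≫ adj.counit.app (K.sc n).homology ≫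
          ((K.sc n).mapHomologyIso (𝟭 A)).inv := by
      rw [h1]
      simp
    rw [h3]
    have := h n
    have : IsIso (adj.counit.app (K.sc n).homology) := this
    infer_instance
  exact h2

theorem isIso_counit_derivedAdj_Q (X : CochainComplex A ℤ) (h : ∀ n, IsIso (adj.counit.app (X.homology n))) :
    IsIso ((derivedAdj adj).counit.app (Q.obj X)) := by
  let _ : CatCommSq (L.mapHomologicalComplex (ComplexShape.up ℤ)) DerivedCategory.Q
    DerivedCategory.Q L.mapDerivedCategory := ⟨L.mapDerivedCategoryFactors.symm⟩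
  let _ : CatCommSq (R.mapHomologicalComplex (ComplexShape.up ℤ)) DerivedCategory.Q
    DerivedCategory.Q R.mapDerivedCategory := ⟨R.mapDerivedCategoryFactors.symm⟩
  have h2 := Adjunction.localization_counit_app (LoccohB.MapAdj.mapComplexAdj adj (ComplexShape.up ℤ))
    DerivedCategory.Q (HomologicalComplex.quasiIso B (ComplexShape.up ℤ))
    DerivedCategory.Q (HomologicalComplex.quasiIso A (ComplexShape.up ℤ))
    L.mapDerivedCategory R.mapDerivedCategory X
  have h3 := quasiIso_counit adj X h
  have h4 : IsIso (Q.map ((LoccohB.MapAdj.mapComplexAdj adj (ComplexShape.up ℤ)).counit.app X)) :=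
    (isIso_Q_map_iff_quasiIso A _).2 h3
  rw [show (derivedAdj adj).counit.app (Q.obj X) = _ from h2]
  infer_instance

/-- The derived counit is an isomorphism at `K` if the counit is an isomorphism at the cohomology of `K`. -/
theorem isIso_counit_derivedAdj_of_homology (K : DerivedCategory A)
    (h : ∀ n, IsIso (adj.counit.app ((homologyFunctor A n).obj K))) :
    IsIso ((derivedAdj adj).counit.app K) := by
  obtain ⟨X, ⟨e⟩⟩ : ∃ X : CochainComplex A ℤ, Nonempty (Q.obj X ≅ K) := ⟨_, ⟨Q.objObjPreimageIso K⟩⟩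
  refine (NatTrans.isIso_app_iff_of_iso (derivedAdj adj).counit e).1 (isIso_counit_derivedAdj_Q adj X fun n => ?_)
  have e' : (homologyFunctor A n).obj K ≅ X.homology n :=
    (homologyFunctor A n).mapIso e.symm ≪≫ (homologyFunctorFactors A n).app X
  exact (NatTrans.isIso_app_iff_of_iso adj.counit e').1 (h n)

/-- Morphisms from a complex with cohomology in the essential image of `L` to a complex killed by `R`. -/
theorem hom_eq_zero_of_counit {K W : DerivedCategory A}
    (h : ∀ n, IsIso (adj.counit.app ((homologyFunctor A n).obj K)))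
    (hW : IsZero (R.mapDerivedCategory.obj W)) (f : K ⟶ W) : f = 0 := by
  have h1 := isIso_counit_derivedAdj_of_homology adj K h
  rw [← cancel_epi ((derivedAdj adj).counit.app K), comp_zero]
  apply ((derivedAdj adj).homEquiv _ _).injective
  exact hW.eq_of_tgt _ _

/-- Vanishing of morphisms by truncation. -/
theorem hom_eq_zero (m : ℤ) {M W : DerivedCategory A}
    (hM : ∀ n : ℤ, m < n → IsIso (adj.counit.app ((homologyFunctor A n).obj M)))
    (hWR : IsZero (R.mapDerivedCategory.obj W)) (hW : W.IsGE (m + 1)) (f : M ⟶ W) : f = 0 := by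
  obtain ⟨X, Y, hX, hY, a, b, d, hT⟩ := (TStructure.t : Triangulated.TStructure (DerivedCategory A)).exists_triangle
    M m (m + 1) rfl
  have hX' : X.IsLE m := ⟨hX⟩
  have hY' : Y.IsGE (m + 1) := ⟨hY⟩
  have h1 : a ≫ f = 0 := TStructure.t.zero _ m (m + 1) (by lia)
  obtain ⟨g, hg⟩ := Triangle.yoneda_exact₂ _ hT f h1
  dsimp at g hg
  have h2 : g = 0 := by
    refine hom_eq_zero_of_counit adj (fun n => ?_) hWR g
    by_cases hn : m < n
    · have h3 : IsIso ((homologyFunctor A n).map b) := by
        have h4 := HomologySequence.exact₂ _ hT n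
        have h5 := HomologySequence.exact₃ _ hT n (n + 1) rfl
        have hz1 : IsZero ((homologyFunctor A n).obj X) := isZero_of_isLE X m n hn
        have hz2 : IsZero ((homologyFunctor A (n + 1)).obj X) := isZero_of_isLE X m (n + 1) (by lia)
        have h6 : Mono ((homologyFunctor A n).map b) := h4.mono_g (hz1.eq_of_src _ _)
        have h7 : Epi ((homologyFunctor A n).map b) := h5.epi_f (hz2.eq_of_tgt _ _)
        exact isIso_of_mono_of_epi _
      exact (NatTrans.isIso_app_iff_of_iso adj.counit (asIso ((homologyFunctor A n).map b))).1 (hM n hn)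
    · have hz : IsZero ((homologyFunctor A n).obj Y) := isZero_of_isGE Y (m + 1) n (by lia)
      exact (L.map_isZero (R.map_isZero hz)).isIso hz _
  rw [hg, h2, comp_zero]

end Counit

section Dual

open HomologicalComplex CochainComplex Opposite ZeroObject
open Groth.Agent.Sga4h.DualCx Groth.Agent.Sga4h.DualSelf Groth.Agent.Sga4h.Refl Groth.Agent.Sga4h.BidGlobU

variable {C : Type u₁} [Category.{v₁} C] [Abelian C] [HasDerivedCategory.{w} C] {T : C ⥤ C ⥤ C} [T.Additive]
  [∀ X, (T.obj X).Additive]
  [∀ (K₁ K₂ : CochainComplex C ℤ), CochainComplex.HasMapBifunctor K₁ K₂ T]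
  [∀ E : CochainComplex C ℤ, (T.map₂CochainComplex.flip.obj E).IsLeftAdjoint]
  [∀ (J : Type), HasColimitsOfShape (Discrete J) C]
  [∀ (J : Type), (colim : (Discrete J ⥤ C) ⥤ C).PreservesMonomorphisms]
  {B : Type u'} [Category.{v'} B] [Abelian B] [HasDerivedCategory.{w'} B]
  {L : B ⥤ C} {R : C ⥤ B} (adj : L ⊣ R) [L.Additive] [R.Additive]
  [PreservesFiniteLimits L] [PreservesFiniteColimits L]
  [PreservesFiniteLimits R] [PreservesFiniteColimits R]

/-- `Hom(P, (D M)[i]) ≃ Hom(M, (D P)[i])`. -/
theorem nonempty_homEquiv (A : DualData T) (M P : CochainComplex C ℤ) (i : ℤ) :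
    Nonempty ((DerivedCategory.Q.obj P ⟶ (DerivedCategory.Q.obj (A.D M))⟦i⟧) ≃
      (DerivedCategory.Q.obj M ⟶ (DerivedCategory.Q.obj (A.D P))⟦i⟧)) := by
  obtain ⟨e1⟩ := nonempty_shiftIso A P (-i)
  -- `D (P[-i]) ≅ (D P)[i]`
  have e2 : DerivedCategory.Q.obj (A.D (P⟦-i⟧)) ≅ (DerivedCategory.Q.obj (A.D P))⟦i⟧ :=
    ((shiftFunctorZero _ ℤ).app _).symm ≪≫
      (CategoryTheory.shiftFunctorAdd' (DerivedCategory C) (-i) i 0 (by lia)).app _ ≪≫
      (CategoryTheory.shiftFunctor _ i).mapIso e1.symm
  obtain ⟨e3⟩ := nonempty_selfEquiv A (P⟦-i⟧) M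
  have e5 : DerivedCategory.Q.obj (P⟦-i⟧) ≅ (DerivedCategory.Q.obj P)⟦-i⟧ :=
    (DerivedCategory.Q.commShiftIso (-i)).app P
  have e7 : ((DerivedCategory.Q.obj P)⟦-i⟧)⟦i⟧ ≅ DerivedCategory.Q.obj P :=
    ((CategoryTheory.shiftFunctorAdd' (DerivedCategory C) (-i) i 0 (by lia)).app _).symm ≪≫
      (shiftFunctorZero _ ℤ).app _
  have h8 : ((DerivedCategory.Q.obj P)⟦-i⟧ ⟶ DerivedCategory.Q.obj (A.D M)) ≃
      (DerivedCategory.Q.obj P ⟶ (DerivedCategory.Q.obj (A.D M))⟦i⟧) :=
    (Functor.FullyFaithful.ofFullyFaithful (CategoryTheory.shiftFunctor (DerivedCategory C) i)).homEquiv.trans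
      (Iso.homCongr e7 (Iso.refl _))
  exact ⟨h8.symm.trans ((Iso.homCongr e5.symm (Iso.refl _)).trans (e3.trans (Iso.homCongr (Iso.refl _) e2)))⟩

/-- **Local duality vanishing**: `Hom(P, (D M)[i]) = 0` if the cohomology of `M` in degrees `> m` is supported in the
open part, `D P` is in degrees `≥ c` and vanishes on the open part, and `i + m < c`. -/
theorem subsingleton_hom_D (A : DualData T) (M P : CochainComplex C ℤ) (m c i : ℤ) (hi : i + m < c)
    (hM : ∀ n : ℤ, m < n → IsIso (adj.counit.app (M.homology n)))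
    (hP : (DerivedCategory.Q.obj (A.D P)).IsGE c)
    (hPR : IsZero (R.mapDerivedCategory.obj (DerivedCategory.Q.obj (A.D P)))) :
    Subsingleton (DerivedCategory.Q.obj P ⟶ (DerivedCategory.Q.obj (A.D M))⟦i⟧) := by
  obtain ⟨e⟩ := nonempty_homEquiv A M P i
  have h0 : ∀ f : DerivedCategory.Q.obj M ⟶ (DerivedCategory.Q.obj (A.D P))⟦i⟧, f = 0 := by
    intro f
    refine hom_eq_zero adj m (fun n hn => ?_) ?_ ?_ f
    · exact (NatTrans.isIso_app_iff_of_iso adj.counit
        ((DerivedCategory.homologyFunctorFactors C n).app M)).2 (hM n hn)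
    · exact ((CategoryTheory.shiftFunctor _ i).map_isZero hPR).of_iso
        ((R.mapDerivedCategory.commShiftIso i).app _)
    · have h1 : ((DerivedCategory.Q.obj (A.D P))⟦i⟧).IsGE (c - i) :=
        DerivedCategory.TStructure.t.isGE_shift _ c i (c - i) (by lia)
      exact DerivedCategory.TStructure.t.isGE_of_ge _ (m + 1) (c - i) (by lia)
  exact ⟨fun f g => e.injective ((h0 _).trans (h0 _).symm)⟩

/-- The dual of `P[0]` vanishes after restriction if `P` does and if duality commutes with restriction. -/
theorem isZero_res_D {T' : B ⥤ B ⥤ B} [T'.Additive] [∀ X, (T'.obj X).Additive]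
    [∀ (K₁ K₂ : CochainComplex B ℤ), CochainComplex.HasMapBifunctor K₁ K₂ T']
    [∀ E : CochainComplex B ℤ, (T'.map₂CochainComplex.flip.obj E).IsLeftAdjoint]
    (A : DualData T) (A' : DualData T') (P : C) (hP : IsZero (R.obj P))
    (e : Nonempty (DerivedCategory.Q.obj ((R.mapHomologicalComplex (ComplexShape.up ℤ)).obj
        (A.D ((CochainComplex.singleFunctor C 0).obj P))) ≅
      DerivedCategory.Q.obj (A'.D ((R.mapHomologicalComplex (ComplexShape.up ℤ)).obj
        ((CochainComplex.singleFunctor C 0).obj P))))) :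
    IsZero (R.mapDerivedCategory.obj (DerivedCategory.Q.obj
      (A.D ((CochainComplex.singleFunctor C 0).obj P)))) := by
  obtain ⟨e⟩ := e
  have h1 : IsZero ((R.mapHomologicalComplex (ComplexShape.up ℤ)).obj
      ((CochainComplex.singleFunctor C 0).obj P)) :=
    ((CochainComplex.singleFunctor B 0).map_isZero hP).of_iso
      ((HomologicalComplex.singleMapHomologicalComplex R (ComplexShape.up ℤ) 0).app P)
  have h2 : IsZero (A'.D ((R.mapHomologicalComplex (ComplexShape.up ℤ)).obj
      ((CochainComplex.singleFunctor C 0).obj P))) :=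
    A'.F.map_isZero h1.op
  exact ((DerivedCategory.Q.map_isZero h2).of_iso e).of_iso (R.mapDerivedCategoryFactors.app _)

/-- **Local duality vanishing**, for a reflexive object `G`. -/
theorem extDep_of_refl [HasExt.{w''} C] (A : DualData T) (G : C)
    (hG : A.Refl ((CochainComplex.singleFunctor C 0).obj G)) (m c n : ℕ) (hn : n + m ≤ c)
    (hM : ∀ b : ℤ, m < b →
      IsIso (adj.counit.app ((A.D ((CochainComplex.singleFunctor C 0).obj G)).homology b)))
    (h₁ : ∀ P : C, IsZero (R.obj P) →
      (DerivedCategory.Q.obj (A.D ((CochainComplex.singleFunctor C 0).obj P))).IsGE c)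
    (h₂ : ∀ P : C, IsZero (R.obj P) →
      IsZero (R.mapDerivedCategory.obj (DerivedCategory.Q.obj
        (A.D ((CochainComplex.singleFunctor C 0).obj P))))) :
    AbsDepth.ExtDep.{w''} R n G := by
  intro P hP b hb e
  have h3 := subsingleton_hom_D adj A (A.D ((CochainComplex.singleFunctor C 0).obj G))
    ((CochainComplex.singleFunctor C 0).obj P) m c b (by lia) hM (h₁ P hP) (h₂ P hP)
  have h4 : IsIso (DerivedCategory.Q.map (A.ev ((CochainComplex.singleFunctor C 0).obj G))) :=
    (DerivedCategory.isIso_Q_map_iff_quasiIso _ _).2 hG.qis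
  let e1 : (DerivedCategory.singleFunctor C 0).obj G ≅
      DerivedCategory.Q.obj (A.D (A.D ((CochainComplex.singleFunctor C 0).obj G))) :=
    (DerivedCategory.singleFunctorIsoCompQ _ 0).app G ≪≫
      asIso (DerivedCategory.Q.map (A.ev ((CochainComplex.singleFunctor C 0).obj G)))
  let e2 : (DerivedCategory.singleFunctor C 0).obj P ≅
      DerivedCategory.Q.obj ((CochainComplex.singleFunctor C 0).obj P) :=
    (DerivedCategory.singleFunctorIsoCompQ _ 0).app P
  have h5 : Subsingleton ((DerivedCategory.singleFunctor C 0).obj P ⟶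
      ((DerivedCategory.singleFunctor C 0).obj G)⟦(b : ℤ)⟧) :=
    (Iso.homCongr e2 ((CategoryTheory.shiftFunctor _ (b : ℤ)).mapIso e1)).subsingleton
  exact Ext.homEquiv.injective (Subsingleton.elim _ _)

end Dual

end Groth.Agent.Sga2lef.H93.AbsLD
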