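import Groth.Agent.Sga2lef.H93.DepthCon
import Groth.Agent.Etcore.ClosedExact
import Groth.Agent.Sga4h.NcLimEt
import Groth.Agent.Sga4h.RightDer

/-!
# Depth and direct image along a closed immersion

`con_push_closed_iff`: the depth of `F` on a closed subscheme `Y` of `X` is the depth of `i_* F` on `X`.
-/

set_option autoImplicit false
set_option linter.unusedSectionVars false
universe u
open CategoryTheory CategoryTheory.Limits AlgebraicGeometry Opposite

namespace Groth.Agent.Sga2lef.H93.ClosedCon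

open Groth.Agent.Sga2lef.H93.AbsDepth Groth.Agent.EtpbcB

variable {Y X W V : Scheme.{u}} (i : Y ⟶ X) [IsClosedImmersion i] (j : W ⟶ X) [IsOpenImmersion j]
  (i' : V ⟶ W) (j' : V ⟶ Y) (h : IsPullback j' i' i j)

include h in
theorem nonempty_rightDerived (q : ℕ) (M : EtCoh.Ab V) :
    Nonempty ((EtCoh.push i).obj ((EtCoh.Rpush j' q).obj M) ≅ (EtCoh.Rpush j q).obj ((EtCoh.push i').obj M)) := by
  have hi' : IsClosedImmersion i' := MorphismProperty.of_isPullback h inferInstance
  have hp : PreservesFiniteLimits (EtCoh.pull i') := S0101.result i'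
  have hinj : ∀ I : EtCoh.Ab V, Injective I → Injective ((EtCoh.push i').obj I) := fun I _ =>
    Injective.injective_of_adjoint (EtCoh.pullPushAdj i') I
  exact ⟨(Sga4h.RightDer.rightDerivedCompExact (EtCoh.push j') (EtCoh.push i) q M).symm ≪≫
    (Sga4h.RightDer.rightDerivedIso (BCCalc.sq h.w) q).app M ≪≫
    Sga4h.RightDer.rightDerivedExactComp (EtCoh.push i') hinj (EtCoh.push j) q M⟩

include h in
/-- The depth of `F` on a closed subscheme is the depth of its direct image. -/
theorem con_push_closed_iff (n : ℕ) (F : EtCoh.Ab Y) :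
    Con (EtCoh.pullPushAdj j') n F ↔ Con (EtCoh.pullPushAdj j) n ((EtCoh.push i).obj F) := by
  have hbc : ∀ G : EtCoh.Ab Y, IsIso ((BCCalc.bcNat h.w).app G) := fun G =>
    Sga4h.NcLimEt.isIso_baseChange0_of_etale h G
  have : IsIso (BCCalc.bcNat h.w) := NatIso.isIso_of_isIso_app _
  obtain ⟨h1, h2⟩ := S0067.result i
  refine ConTr.con_map (EtCoh.pullPushAdj j') (EtCoh.pullPushAdj j) (EtCoh.push i) (EtCoh.push i')
    (BCCalc.sq h.w) (asIso (BCCalc.bcNat h.w)).symm (fun G => ?_)
    (fun q M => nonempty_rightDerived i j i' j' h q M) n F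
  have h3 := BCCalc.unit_baseChange0 h.w G
  have h4 : (EtCoh.push j).map (EtCoh.baseChange0 i j i' j' h.w G) ≫
      (EtCoh.push j).map ((asIso (BCCalc.bcNat h.w)).symm.hom.app G) = 𝟙 _ :=
    ((EtCoh.push j).map_comp _ _).symm.trans ((congrArg (EtCoh.push j).map
      ((asIso (BCCalc.bcNat h.w)).hom_inv_id_app G)).trans ((EtCoh.push j).map_id _))
  refine (Category.assoc _ _ _).symm.trans ?_
  refine (congrArg (fun z => z ≫ (EtCoh.push j).map ((asIso (BCCalc.bcNat h.w)).symm.hom.app G)) h3.symm).trans ?_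
  refine (Category.assoc _ _ _).trans ?_
  exact (congrArg (fun z => (EtCoh.pullPushAdj j).unit.app _ ≫ z) h4).trans (Category.comp_id _)

end Groth.Agent.Sga2lef.H93.ClosedCon
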