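import Groth.Agent.Sga2lef.H93.AbsDepth
import Mathlib.CategoryTheory.Adjunction.Unique

/-!
# Transfer of the depth conditions `Con`

* `con_congr`: independence of the left adjoint;
* `con_map`: invariance under conservative exact functors compatible with the direct images;
* `con_of_iso`, `extDep_congr`.
-/

set_option autoImplicit false
set_option linter.unusedSectionVars false

open CategoryTheory CategoryTheory.Limits CategoryTheory.Abelian

universe w v v' v₁ v₁' u u' u₁ u₁'

namespace Groth.Agent.Sga2lef.H93.ConTr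

open AbsDepth

variable {C : Type u} [Category.{v} C] [Abelian C] {C' : Type u'} [Category.{v'} C'] [Abelian C']
  [EnoughInjectives C']

theorem extDep_congr [HasExt.{w} C] {r r' : C ⥤ C'} (e : r ≅ r') (n : ℕ) (G : C) :
    ExtDep.{w} r n G ↔ ExtDep.{w} r' n G :=
  ⟨fun h Q hQ => h Q (hQ.of_iso (e.app Q)), fun h Q hQ => h Q (hQ.of_iso (e.symm.app Q))⟩

theorem con_of_iso {r : C ⥤ C'} {t : C' ⥤ C} (adj : r ⊣ t) [t.Additive] (n : ℕ) {G G' : C} (e : G ≅ G')
    (h : Con adj n G) : Con adj n G' := by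
  obtain ⟨h1, h2, h3⟩ := h
  have hu : adj.unit.app G' = e.inv ≫ adj.unit.app G ≫ t.map (r.map e.hom) := by
    have := adj.unit.naturality e.hom
    dsimp at this
    rw [← this]
    simp
  refine ⟨fun hn => ?_, fun hn => ?_, fun p hp hpn => (h3 p hp hpn).of_iso
    ((t.rightDerived p).mapIso (r.mapIso e.symm))⟩
  · have := h1 hn
    rw [hu]
    exact mono_comp _ _
  · have := h2 hn
    rw [hu]
    infer_instance

theorem con_congr {r r' : C ⥤ C'} {t : C' ⥤ C} (adj : r ⊣ t) (adj' : r' ⊣ t) [t.Additive] (n : ℕ) (G : C)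
    (h : Con adj n G) : Con adj' n G := by
  obtain ⟨h1, h2, h3⟩ := h
  have hu : adj'.unit.app G = adj.unit.app G ≫ t.map ((adj.leftAdjointUniq adj').hom.app G) :=
    (Adjunction.unit_leftAdjointUniq_hom_app adj adj' G).symm
  refine ⟨fun hn => ?_, fun hn => ?_, fun p hp hpn => (h3 p hp hpn).of_iso
    ((t.rightDerived p).mapIso ((adj.leftAdjointUniq adj').symm.app G))⟩
  · have := h1 hn
    rw [hu]
    exact mono_comp _ _
  · have := h2 hn
    rw [hu]
    infer_instance

section Map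

variable {D : Type u₁} [Category.{v₁} D] [Abelian D] {D' : Type u₁'} [Category.{v₁'} D'] [Abelian D']
  [EnoughInjectives D']
  {r : C ⥤ C'} {t : C' ⥤ C} (adj : r ⊣ t) [t.Additive] {r₂ : D ⥤ D'} {t₂ : D' ⥤ D} (adj₂ : r₂ ⊣ t₂)
  [t₂.Additive] (a : C ⥤ D) (a' : C' ⥤ D') [a.Faithful] [a.Additive] [PreservesFiniteLimits a]
  [a.ReflectsIsomorphisms] (e : t ⋙ a ≅ a' ⋙ t₂) (e' : r ⋙ a' ≅ a ⋙ r₂)
  (hu : ∀ G : C, a.map (adj.unit.app G) ≫ e.hom.app _ ≫ t₂.map (e'.hom.app G) = adj₂.unit.app (a.obj G))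
  (eR : ∀ (q : ℕ) (M : C'), Nonempty (a.obj ((t.rightDerived q).obj M) ≅ (t₂.rightDerived q).obj (a'.obj M)))

theorem isZero_of_faithful {Z : C} (h : IsZero (a.obj Z)) : IsZero Z := by
  rw [IsZero.iff_id_eq_zero]
  apply a.map_injective
  exact h.eq_of_src _ _

include e e' hu eR in
/-- Transfer along conservative exact functors. -/
theorem con_map (n : ℕ) (G : C) : Con adj n G ↔ Con adj₂ n (a.obj G) := by
  have hR : ∀ p : ℕ, IsZero ((t.rightDerived p).obj (r.obj G)) ↔
      IsZero ((t₂.rightDerived p).obj (r₂.obj (a.obj G))) := by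
    intro p
    have e1 : a.obj ((t.rightDerived p).obj (r.obj G)) ≅ (t₂.rightDerived p).obj (r₂.obj (a.obj G)) :=
      (eR p (r.obj G)).some ≪≫ (t₂.rightDerived p).mapIso (e'.app G)
    exact ⟨fun h => (a.map_isZero h).of_iso e1.symm, fun h => isZero_of_faithful a (h.of_iso e1)⟩
  have hm : Mono (adj.unit.app G) ↔ Mono (adj₂.unit.app (a.obj G)) := by
    rw [← hu G]
    constructor
    · intro h
      have h1 : Mono (a.map (adj.unit.app G)) := inferInstance
      exact mono_comp _ _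
    · intro h
      have h1 : Mono (a.map (adj.unit.app G)) :=
        mono_of_mono (a.map (adj.unit.app G)) (e.hom.app _ ≫ t₂.map (e'.hom.app G))
      exact a.mono_of_mono_map h1
  have hi : IsIso (adj.unit.app G) ↔ IsIso (adj₂.unit.app (a.obj G)) := by
    rw [← hu G]
    constructor
    · intro h
      infer_instance
    · intro h
      have h1 : IsIso (a.map (adj.unit.app G)) := IsIso.of_isIso_comp_right (a.map (adj.unit.app G)) (e.hom.app _ ≫ t₂.map (e'.hom.app G))
      exact isIso_of_reflects_iso _ a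
  constructor
  · rintro ⟨h1, h2, h3⟩
    exact ⟨fun hn => hm.1 (h1 hn), fun hn => hi.1 (h2 hn), fun p hp hpn => (hR p).1 (h3 p hp hpn)⟩
  · rintro ⟨h1, h2, h3⟩
    exact ⟨fun hn => hm.2 (h1 hn), fun hn => hi.2 (h2 hn), fun p hp hpn => (hR p).2 (h3 p hp hpn)⟩

end Map

end Groth.Agent.Sga2lef.H93.ConTr
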