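import Groth.Prelude.Def_EtDepth
import Groth.Agent.Sga4B.SuppFun
import Groth.Agent.Sga4h.LocCohLES
import Groth.Agent.Sga2lef.H93.ConTr
import Groth.Agent.Etcore.ShriekBasic

/-!
# Étale depth in terms of the unit and of the higher direct images

`depthGE_iff_con`: `DepthGE j F n` iff the conditions `Con` of `AbsDepth` hold.
-/

set_option autoImplicit false
universe u
open CategoryTheory CategoryTheory.Limits AlgebraicGeometry Opposite

namespace Groth.Agent.Sga2lef.H93.DepthCon

open Groth.Agent.Sga2lef.H93.AbsDepth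

variable {X U : Scheme.{u}} (j : U ⟶ X) [IsOpenImmersion j] [EtCoh.BCCont j]

theorem depthGE_iff_con (F : EtCoh.Ab X) (n : ℕ) :
    EtDepth.DepthGE j F n ↔ Con (EtCoh.pullPushAdj j) n F := by
  constructor
  · intro h
    exact ⟨fun hn => (Sga4h.LocCohLES.isZero_locCoh_zero_iff j F).1 (h 0 (by lia)),
      fun hn => Sga4B.SuppFun.isIso_unit j F (h 0 (by lia)) (h 1 (by lia)),
      fun p hp hpn => Sga4B.SuppFun.isZero_Rpush j p hp F (h (p + 1) hpn)⟩
  · rintro ⟨h1, h2, h3⟩ p hp
    obtain _ | _ | p := p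
    · exact Sga4B.SuppFun.isZero_locCoh_zero j F (h1 (by lia))
    · exact Sga4B.SuppFun.isZero_locCoh_one j F (h2 (by lia))
    · obtain ⟨e⟩ := Sga4B.SuppFun.nonempty_locCoh_iso j (p + 1) (by lia) F
      exact (h3 (p + 1) (by lia) (by lia)).of_iso e

/-- `DepthGE` in terms of `Ext`. -/
theorem depthGE_iff_extDep (F : EtCoh.Ab X) (n : ℕ) :
    EtDepth.DepthGE j F n ↔ ExtDep.{u + 1} (EtCoh.pull j) n F := by
  have : PreservesFiniteLimits (EtCoh.pull j) := S0101.result j
  rw [depthGE_iff_con, extDep_iff_con (EtCoh.pullPushAdj j)]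

end Groth.Agent.Sga2lef.H93.DepthCon
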