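import Groth.Agent.Sga4h.X144Shr
import Groth.Agent.Sga4h.BidEtSh
import Groth.Agent.Sga4h.BidLimAb
import Groth.Agent.Sga4h.BidRed538Ext
import Groth.Agent.EtpbcA.ArtinSupp
import Groth.Agent.Sga2lef.H93.ConTr
import Groth.Agent.S0652

/-!
# Transfer between sheaves of modules and abelian sheaves

* `isIso_counit`: `j_! j^* A ⟶ A` is an isomorphism if the stalks of `A` vanish outside the open subscheme;
* `con_iff`: the depth conditions for `A` and for the underlying abelian sheaf;
* `nonempty_ab_LM`: the abelian sheaf underlying `Λ[U]`, `U` open, is `j_! (Z/p)`.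
-/

set_option autoImplicit false
set_option linter.deprecated false
universe u
open CategoryTheory CategoryTheory.Limits AlgebraicGeometry Opposite

namespace Groth.Agent.Sga2lef.H93.ModTr

open Groth.Agent.Sga4h.ModRestr Groth.Agent.Etrest.ModGerm Groth.Agent.Etrest.ModAb
  Groth.Agent.Sga4h.EtaleRes

variable (Λ : Type (u + 1)) [CommRing Λ]

section Counit

variable {X U : Scheme.{u}} (j : U ⟶ X) [IsOpenImmersion j]

/-- A sheaf of modules which vanishes on `U` and locally outside of `U` is zero. -/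
theorem isZero_of_res (Q : EtModW.Mod Λ X) (h1 : IsZero ((Sga4h.ModRestr.res Λ j).obj Q))
    (h2 : ∀ (W : X.Etale) (s : EtModW.sect Λ Q W) (w : W.left), W.hom w ∉ Set.range j →
      ∃ (V : X.Etale) (g : V ⟶ W), (∃ v : V.left, g.left v = w) ∧ Etrest.ModGerm.res Λ Q g s = 0) : IsZero Q := by
  refine (IsZero.iff_id_eq_zero _).2 ?_
  have key : ∀ (W : X.Etale) (s : EtModW.sect Λ Q W), s = 0 := by
    intro W s
    refine sect_ext Λ Q s 0 (fun w => ?_)
    by_cases hw : W.hom w ∈ Set.range j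
    · obtain ⟨x, hx⟩ := hw
      obtain ⟨y, hy1, hy2⟩ := Scheme.Pullback.exists_preimage_pullback w x hx.symm
      refine ⟨(EtShriek.compEtale j).obj ((EtCoh.bc j).obj W), (compBcAdj j).counit.app W, ⟨y, hy1⟩, ?_⟩
      have h3 : Subsingleton (EtModW.sect Λ ((Sga4h.ModRestr.res Λ j).obj Q) ((EtCoh.bc j).obj W)) := by
        have h4 : IsZero (((Sga4h.ModRestr.res Λ j).obj Q).obj.obj (op ((EtCoh.bc j).obj W))) :=
          ((sheafToPresheaf U.smallEtaleTopology (ModuleCat.{u + 1} Λ)).map_isZero h1).obj (op ((EtCoh.bc j).obj W))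
        exact ModuleCat.subsingleton_of_isZero h4
      exact h3.elim _ _
    · obtain ⟨V, g, hv, hg⟩ := h2 W s w hw
      exact ⟨V, g, hv, by rw [hg, map_zero]⟩
  apply Sheaf.hom_ext
  ext W s
  exact key W.unop s

/-- `j_! j^* A ⟶ A` is an isomorphism if the sections of `A` vanish locally outside of `U`. -/
theorem isIso_counit_of_local (A : EtModW.Mod Λ X)
    (h : ∀ (W : X.Etale) (s : EtModW.sect Λ A W) (w : W.left), W.hom w ∉ Set.range j →
      ∃ (V : X.Etale) (g : V ⟶ W), (∃ v : V.left, g.left v = w) ∧ Etrest.ModGerm.res Λ A g s = 0) :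
    IsIso ((extResAdj Λ j).counit.app A) := by
  have hm := Sga4h.X144Shr.mono_counit Λ j A
  have hr := Sga4h.X144Shr.isIso_res_counit Λ j A
  let π : A ⟶ cokernel ((extResAdj Λ j).counit.app A) := cokernel.π ((extResAdj Λ j).counit.app A)
  have hQ : IsZero (cokernel ((extResAdj Λ j).counit.app A)) := by
    refine isZero_of_res Λ j _ ?_ ?_
    · have h1 : (Sga4h.ModRestr.res Λ j).map π = 0 := by
        rw [← cancel_epi ((Sga4h.ModRestr.res Λ j).map ((extResAdj Λ j).counit.app A)), comp_zero, ← Functor.map_comp,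
          cokernel.condition, Functor.map_zero]
      have h2 : Epi ((Sga4h.ModRestr.res Λ j).map π) := inferInstance
      exact IsZero.of_epi_eq_zero _ h1
    · intro W s w hw
      have h1 : Presheaf.IsLocallySurjective X.smallEtaleTopology π.hom := by
        have : Epi π := inferInstance
        exact (Sheaf.isLocallySurjective_iff_epi' (J := X.smallEtaleTopology) _ π).2 this
      have h2 := h1.imageSieve_mem (U := W) s
      rw [EtpbcA.Germ.mem_iff] at h2
      obtain ⟨V, g, ⟨σ, hσ⟩, v, hv⟩ := h2 w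
      have hv' : V.hom v ∉ Set.range j := by
        have h3 : g.left ≫ W.hom = V.hom := MorphismProperty.Over.w g
        rw [← h3, Scheme.Hom.comp_apply, hv]
        exact hw
      obtain ⟨V', g', ⟨v', hv2⟩, h4⟩ := h V σ v hv'
      refine ⟨V', g' ≫ g, ⟨v', ?_⟩, ?_⟩
      · have h5 : (g' ≫ g).left = g'.left ≫ g.left := rfl
        rw [h5, Scheme.Hom.comp_apply, hv2, hv]
      · have h6 : Etrest.ModGerm.res Λ (cokernel ((extResAdj Λ j).counit.app A)) g s = ev Λ π V σ := hσ.symm
        have h7 : Etrest.ModGerm.res Λ (cokernel ((extResAdj Λ j).counit.app A)) (g' ≫ g) s =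
            Etrest.ModGerm.res Λ _ g' (Etrest.ModGerm.res Λ (cokernel ((extResAdj Λ j).counit.app A)) g s) := by
          have := congrArg (fun k => k.hom s) ((cokernel ((extResAdj Λ j).counit.app A)).obj.map_comp g.op g'.op)
          exact this
        rw [h7, h6]
        refine (ev_res Λ π g' σ).symm.trans ?_
        rw [h4]
        exact map_zero _
  have he : Epi ((extResAdj Λ j).counit.app A) := by
    rw [Preadditive.epi_iff_isZero_cokernel]
    exact hQ
  exact isIso_of_mono_of_epi _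

/-- `j_! j^* A ⟶ A` is an isomorphism if the support of the underlying abelian sheaf is contained in `U`. -/
theorem isIso_counit_of_supp (A : EtModW.Mod Λ X)
    (h : ∀ x : X, x ∉ Set.range j → x ∉ EtPBC.supp ((ab Λ X).obj A)) :
    IsIso ((extResAdj Λ j).counit.app A) := by
  refine isIso_counit_of_local Λ j A (fun W s w hw => ?_)
  exact (EtpbcA.Artin.not_mem_supp_iff ((ab Λ X).obj A) (W.hom w)).1 (h _ hw) W s w rfl

end Counit

section Con

open Groth.Agent.Sga2lef.H93.AbsDepth

variable {X U : Scheme.{u}} (j : U ⟶ X)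

theorem con_mod_iff (n : ℕ) (G : EtModW.Mod Λ X) :
    Con (Etrest.ModAb.pullPushAdj Λ j) n G ↔ Con (EtCoh.pullPushAdj j) n ((ab Λ X).obj G) :=
  ConTr.con_map (Etrest.ModAb.pullPushAdj Λ j) (EtCoh.pullPushAdj j) (ab Λ X) (ab Λ U) (pushIso Λ j) (pullIso Λ j)
    (Sga4h.BidLimAb.ab_unit_pullIso j) (fun q M => ⟨(rpushIso Λ j q).app M⟩) n G

theorem extDep_mod_iff [IsOpenImmersion j] (n : ℕ) (G : EtModW.Mod Λ X) :
    ExtDep.{u + 1} (Sga4h.ModRestr.res Λ j) n G ↔ Con (EtCoh.pullPushAdj j) n ((ab Λ X).obj G) := by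
  have h1 : ExtDep.{u + 1} (Sga4h.ModRestr.res Λ j) n G ↔ Con (resPushAdj Λ j) n G :=
    extDep_iff_con (resPushAdj Λ j) n G
  rw [h1, ← con_mod_iff Λ j n G]
  exact ⟨ConTr.con_congr _ _ n G, ConTr.con_congr _ _ n G⟩

end Con

section Free

open Groth.Agent.Etcore.LFree

variable {X U : Scheme.{u}}

/-- The final object of the small etale site. -/
noncomputable abbrev topE (X : Scheme.{u}) : X.Etale := Scheme.Etale.mk (𝟙 X)

noncomputable instance uniqueHom (V : X.Etale) : Unique (V ⟶ topE X) where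
  default := MorphismProperty.Over.homMk V.hom (Category.comp_id _)
  uniq f := by
    apply MorphismProperty.Over.Hom.ext
    change f.left = V.hom
    exact (Category.comp_id _).symm.trans (MorphismProperty.Over.w f)

/-- `Λ[X]` is the constant sheaf. -/
noncomputable def isoConst : LM Λ (topE X) ≅ EtModW.constMod Λ X Λ :=
  (presheafToSheaf X.smallEtaleTopology (ModuleCat.{u + 1} Λ)).mapIso
    (NatIso.ofComponents (fun V => (Finsupp.LinearEquiv.finsuppUnique Λ Λ (V.unop ⟶ topE X)).toModuleIso)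
      (fun {V W} g => by
        ext1
        refine Finsupp.lhom_ext' fun h => LinearMap.ext_ring ?_
        change (Finsupp.LinearEquiv.finsuppUnique Λ Λ (unop W ⟶ topE X))
            (Finsupp.mapDomain (fun h => g.unop ≫ h) (Finsupp.single h 1)) =
          (Finsupp.LinearEquiv.finsuppUnique Λ Λ (unop V ⟶ topE X)) (Finsupp.single h 1)
        rw [Finsupp.mapDomain_single, Finsupp.LinearEquiv.finsuppUnique_apply,
          Finsupp.LinearEquiv.finsuppUnique_apply, Unique.eq_default (g.unop ≫ h), Unique.eq_default h,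
          Finsupp.single_eq_same, Finsupp.single_eq_same]))

/-- `Λ[U] ≅ j_! Λ` for an etale `j : U ⟶ X`. -/
theorem nonempty_LM_iso_ext (j : U ⟶ X) [Etale j] :
    Nonempty (LM Λ (Scheme.Etale.mk j) ≅ (ext Λ j).obj (EtModW.constMod Λ U Λ)) := by
  obtain ⟨e⟩ := Sga4h.BidRed538Ext.nonempty_ext_LM (Λ := Λ) j (topE U)
  let i : (EtShriek.compEtale j).obj (topE U) ≅ Scheme.Etale.mk j :=
    MorphismProperty.Over.isoMk (Iso.refl _) (by
      change 𝟙 U ≫ j = 𝟙 U ≫ j
      rfl)
  exact ⟨(LMF (Λ := Λ) X).mapIso i.symm ≪≫ e ≪≫ (ext Λ j).mapIso (isoConst Λ)⟩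

variable (j : U ⟶ X) [IsOpenImmersion j]

/-- The stalks of `j_! B` vanish outside of `U`. -/
theorem not_mem_supp_ext (B : EtModW.Mod Λ U) (x : X) (hx : x ∉ Set.range j) :
    x ∉ EtPBC.supp ((ab Λ X).obj ((ext Λ j).obj B)) := by
  rw [EtpbcA.Artin.not_mem_supp_iff]
  intro W s w hw
  exact Sga4h.X144Shr.ext_local_zero Λ j B W s w (by rw [hw]; exact hx)

/-- The abelian sheaf underlying `Λ[U]` is `j_! Λ`. -/
theorem nonempty_ab_LM (M : Type) [AddCommGroup M]
    (hM : (ab Λ U).obj (EtModW.constMod Λ U Λ) ≅ EtCoh.const U M) :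
    Nonempty ((ab Λ X).obj (LM Λ (Scheme.Etale.mk j)) ≅ (EtShriek.extZero j).obj (EtCoh.const U M)) := by
  obtain ⟨e⟩ := nonempty_LM_iso_ext Λ j
  have h1 := S0652.result j (EtCoh.const U M) ((ab Λ X).obj ((ext Λ j).obj (EtModW.constMod Λ U Λ))) ?_ ?_
  · obtain ⟨e1⟩ := h1
    exact ⟨(ab Λ X).mapIso e ≪≫ e1⟩
  · have e2 : (EtShriek.restrAlong j).obj ((ab Λ X).obj ((ext Λ j).obj (EtModW.constMod Λ U Λ))) ≅
        (ab Λ U).obj ((Sga4h.ModRestr.res Λ j).obj ((ext Λ j).obj (EtModW.constMod Λ U Λ))) := Iso.refl _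
    exact ⟨e2 ≪≫ (ab Λ U).mapIso (asIso ((extResAdj Λ j).unit.app (EtModW.constMod Λ U Λ))).symm ≪≫ hM⟩
  · intro Ω _ _ ξ hξ
    have h2 := not_mem_supp_ext Λ j (EtModW.constMod Λ U Λ) (ξ default) (hξ ⟨_, rfl⟩)
    rw [EtpbcA.Artin.mem_supp_iff _ (ξ default) ξ ((EtpbcA.Artin.range_eq_iff ξ _).2 rfl), not_not] at h2
    exact h2

end Free

end Groth.Agent.Sga2lef.H93.ModTr
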