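import Groth.Agent.Sga2lef.H93.LDEt
import Groth.Agent.Sga2lef.H93.ModTr
import Groth.Agent.Sga2lef.H93.DepthCon
import Groth.Agent.Sga4h.ExtFree
import Groth.Agent.S0654

/-!
# Depth of a closed subscheme from local duality

`con_closed`: the depth along `X - W` of the constant sheaf on a closed subscheme `Y` of `X`, from semipurity of
`X - W`, reflexivity of `Λ[U]`, `U = X - Y`, and vanishing of the stalks of `R^b u_* Λ` outside of `W` for `b > m`.
-/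

set_option autoImplicit false

universe u

open CategoryTheory CategoryTheory.Limits AlgebraicGeometry Opposite

attribute [local instance 5000] CategoryTheory.Abelian.toPreadditive
  CategoryTheory.Preadditive.preadditiveHasZeroMorphisms

attribute [-instance] Int.instConditionallyCompleteLinearOrder

namespace Groth.Agent.Sga2lef.H93.FTLoc

attribute [local instance] HasDerivedCategory.standard
open scoped Groth.Agent.Sga4h.ModInst
open Groth.Agent.Sga4h.Refl Groth.Agent.Sga4h.BidEtSh Groth.Agent.Sga4h.ModDTensor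
open Groth.Agent.Sga2lef.H93.AbsDepth Groth.Agent.Etrest.ModAb Groth.Agent.Etcore.LFree

variable {Λ : Type (u + 1)} [CommRing Λ] {X W : Scheme.{u}}

/-- `H^b(D(Λ[U])) ≅ R^b u_* Λ`. -/
theorem nonempty_homology_D_LM (J : CochainComplex (EtModW.Mod Λ X) ℤ) (hJ : J.IsKInjective)
    (hJ' : ∀ n, Injective (J.X n))
    (i : (CochainComplex.singleFunctor (EtModW.Mod Λ X) 0).obj (EtModW.constMod Λ X Λ) ⟶ J) (hi : QuasiIso i)
    (U : X.Etale) (n : ℕ) (m : ℤ) (hm : (n : ℤ) = m) :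
    Nonempty (((Groth.Agent.Sga4h.DualEt.dualData J hJ hJ').D
        ((CochainComplex.singleFunctor (EtModW.Mod Λ X) 0).obj (LM Λ U))).homology m ≅
      (EtModW.Rpush Λ U.hom n).obj ((EtModW.pull Λ U.hom).obj (EtModW.constMod Λ X Λ))) := by
  have h1 : EtModD.HasSheafHom (LM Λ U) := hasSheafHom _
  obtain ⟨e1⟩ := Groth.Agent.Sga4h.ExtD843.nonempty_homology_D hJ hJ' i (LM Λ U) n m hm
  obtain ⟨e2⟩ := Groth.Agent.Sga4h.ExtFree.nonempty_extSheaf_iso U (LM Λ U) (gen Λ U)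
    (Groth.Agent.Sga4h.ExtFree.represents_LM U) n (EtModW.constMod Λ X Λ)
  exact ⟨e1 ≪≫ e2⟩

/-- `R^b u_* Λ`, underlying abelian sheaf. -/
theorem nonempty_ab_Rpush {U : Scheme.{u}} (u : U ⟶ X) (M : Type) [AddCommGroup M]
    (hM : (ab Λ X).obj (EtModW.constMod Λ X Λ) ≅ EtCoh.const X M) (n : ℕ) :
    Nonempty ((ab Λ X).obj ((EtModW.Rpush Λ u n).obj ((EtModW.pull Λ u).obj (EtModW.constMod Λ X Λ))) ≅
      (EtCoh.Rpush u n).obj (EtCoh.const U M)) := by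
  exact ⟨(rpushIso Λ u n).app _ ≪≫ (EtCoh.Rpush u n).mapIso ((pullIso Λ u).app _ ≪≫
    (EtCoh.pull u).mapIso hM ≪≫ EtCore.pullConst u M)⟩

/-- The counit condition for `D(Λ[U])`. -/
theorem isIso_counit_D (j : W ⟶ X) [IsOpenImmersion j] (J : CochainComplex (EtModW.Mod Λ X) ℤ)
    (hJ : J.IsKInjective) (hJ' : ∀ n, Injective (J.X n))
    (i : (CochainComplex.singleFunctor (EtModW.Mod Λ X) 0).obj (EtModW.constMod Λ X Λ) ⟶ J) (hi : QuasiIso i)
    (M : Type) [AddCommGroup M] (hM : (ab Λ X).obj (EtModW.constMod Λ X Λ) ≅ EtCoh.const X M)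
    {U : Scheme.{u}} (u : U ⟶ X) [IsOpenImmersion u] (m : ℕ)
    (h : ∀ b : ℕ, m < b → ∀ x : X, x ∉ Set.range j → x ∉ EtPBC.supp ((EtCoh.Rpush u b).obj (EtCoh.const U M)))
    (b : ℤ) (hb : m < b) : IsIso ((adjM Λ j).counit.app
      (((Groth.Agent.Sga4h.DualEt.dualData J hJ hJ').D
        ((CochainComplex.singleFunctor (EtModW.Mod Λ X) 0).obj (LM Λ (Scheme.Etale.mk u)))).homology b)) := by
  obtain ⟨n, rfl⟩ : ∃ n : ℕ, b = n := ⟨b.toNat, by lia⟩
  obtain ⟨e⟩ := nonempty_homology_D_LM J hJ hJ' i hi (Scheme.Etale.mk u) n n rfl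
  obtain ⟨e'⟩ := nonempty_ab_Rpush u M hM n
  refine (NatTrans.isIso_app_iff_of_iso (adjM Λ j).counit e).2 ?_
  refine ModTr.isIso_counit_of_supp Λ j _ (fun x hx => ?_)
  exact fun hx' => h n (by lia) x hx ((Set.ext_iff.1 (EtpbcA.Artin.supp_congr e') x).1 hx')

/-- The depth of `j_! Λ`. -/
theorem extDep_LM (j : W ⟶ X) [IsOpenImmersion j] (J : CochainComplex (EtModW.Mod Λ X) ℤ)
    (hJ : J.IsKInjective) (hJ' : ∀ n, Injective (J.X n))
    (i : (CochainComplex.singleFunctor (EtModW.Mod Λ X) 0).obj (EtModW.constMod Λ X Λ) ⟶ J) (hi : QuasiIso i)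
    (M : Type) [AddCommGroup M] (hM : (ab Λ X).obj (EtModW.constMod Λ X Λ) ≅ EtCoh.const X M)
    {U : Scheme.{u}} (u : U ⟶ X) [IsOpenImmersion u] (m c n : ℕ) (hn : n + m ≤ c)
    (h : ∀ b : ℕ, m < b → ∀ x : X, x ∉ Set.range j → x ∉ EtPBC.supp ((EtCoh.Rpush u b).obj (EtCoh.const U M)))
    (hG : (Groth.Agent.Sga4h.DualEt.dualData J hJ hJ').Refl
      ((CochainComplex.singleFunctor (EtModW.Mod Λ X) 0).obj (LM Λ (Scheme.Etale.mk u))))
    (hc : ExtDep.{u + 1} (resM Λ j) c (EtModW.constMod Λ X Λ)) :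
    ExtDep.{u + 1} (resM Λ j) n (LM Λ (Scheme.Etale.mk u)) :=
  LDEt.extDep_of_refl j J hJ hJ' i hi (Groth.Agent.Sga4h.BidRed538Main.stdDual Λ W)
    (Groth.Agent.Sga4h.BidRed538Main.stdι Λ W) (Groth.Agent.Sga4h.BidRed538Main.quasiIso_stdι Λ W)
    (LM Λ (Scheme.Etale.mk u)) hG m c n hn
    (fun b hb => isIso_counit_D j J hJ hJ' i hi M hM u m h b hb) hc

/-- **Depth of a closed subscheme from local duality**. -/
theorem con_closed (j : W ⟶ X) [IsOpenImmersion j] (M : Type) [AddCommGroup M]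
    (hMX : (ab Λ X).obj (EtModW.constMod Λ X Λ) ≅ EtCoh.const X M)
    {Y : Scheme.{u}} (i : Y ⟶ X) [IsClosedImmersion i] (U : X.Opens) (hU : (U : Set X) = (Set.range i)ᶜ)
    (hMU : (ab Λ U).obj (EtModW.constMod Λ U Λ) ≅ EtCoh.const U M)
    (hG : (Groth.Agent.Sga4h.BidRed538Main.stdDual Λ X).Refl
      ((CochainComplex.singleFunctor (EtModW.Mod Λ X) 0).obj (LM Λ (Scheme.Etale.mk U.ι))))
    (m c n : ℕ) (hn : n + 1 + m ≤ c) (hc : Con (EtCoh.pullPushAdj j) c (EtCoh.const X M))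
    (h : ∀ b : ℕ, m < b → ∀ x : X, x ∉ Set.range j → x ∉ EtPBC.supp ((EtCoh.Rpush U.ι b).obj (EtCoh.const U M))) :
    Con (EtCoh.pullPushAdj j) n ((EtCoh.push i).obj (EtCoh.const Y M)) := by
  have hj : PreservesFiniteLimits (EtCoh.pull j) := S0101.result j
  have h1 : ExtDep.{u + 1} (resM Λ j) c (EtModW.constMod Λ X Λ) :=
    (ModTr.extDep_mod_iff Λ j c _).2 (ConTr.con_of_iso (EtCoh.pullPushAdj j) c hMX.symm hc)
  have h2 : ExtDep.{u + 1} (resM Λ j) (n + 1) (LM Λ (Scheme.Etale.mk U.ι)) :=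
    extDep_LM j (Groth.Agent.Sga4h.BidRed538Main.stdJ Λ X) (Groth.Agent.Sga4h.BidRed538Main.isKInjective_stdJ Λ X)
      (Groth.Agent.Sga4h.BidRed538Main.injective_stdJ Λ X) (Groth.Agent.Sga4h.BidRed538Main.stdι Λ X)
      (Groth.Agent.Sga4h.BidRed538Main.quasiIso_stdι Λ X) M hMX U.ι m c (n + 1) hn h hG h1
  have h3 : Con (EtCoh.pullPushAdj j) (n + 1) ((ab Λ X).obj (LM Λ (Scheme.Etale.mk U.ι))) :=
    (ModTr.extDep_mod_iff Λ j (n + 1) _).1 h2
  obtain ⟨e⟩ := ModTr.nonempty_ab_LM Λ U.ι M hMU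
  have h4 := ConTr.con_of_iso (EtCoh.pullPushAdj j) (n + 1) e h3
  obtain ⟨w, hS⟩ := S0654.result i U hU (EtCoh.const X M)
  have e1 : (EtShriek.restrAlong U.ι).obj (EtCoh.const X M) ≅ EtCoh.const U M :=
    (Groth.Agent.Etcore.ShriekBasic.pullIsoRestr U.ι).symm.app _ ≪≫ EtCore.pullConst U.ι M
  have h5 := ConTr.con_of_iso (EtCoh.pullPushAdj j) (n + 1) ((EtShriek.extZero U.ι).mapIso e1.symm) h4
  have h6 : ExtDep.{u + 1} (EtCoh.pull j) (n + 1) ((EtShriek.extZero U.ι).obj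
      ((EtShriek.restrAlong U.ι).obj (EtCoh.const X M))) :=
    (extDep_iff_con (EtCoh.pullPushAdj j) (n + 1) _).2 h5
  have h7 : ExtDep.{u + 1} (EtCoh.pull j) n (EtCoh.const X M) :=
    ((extDep_iff_con (EtCoh.pullPushAdj j) c _).2 hc).le (by lia)
  have h8 := ExtDep.third hS h7 h6
  exact ConTr.con_of_iso (EtCoh.pullPushAdj j) n ((EtCoh.push i).mapIso (EtCore.pullConst i M))
    ((extDep_iff_con (EtCoh.pullPushAdj j) n _).1 h8)

end Groth.Agent.Sga2lef.H93.FTLoc
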