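import Mathlib.CategoryTheory.Abelian.RightDerived
import Mathlib.CategoryTheory.Abelian.Injective.Ext
import Mathlib.CategoryTheory.Abelian.Refinements

/-!
# Vanishing of right derived functors of a right adjoint from vanishing of Ext

If `F ⊣ G` and `Ext^b(F Q, Y) = 0` for all `Q`, then `(R^b G)(Y) = 0`.
-/

set_option autoImplicit false

universe w v v' u u'

open CategoryTheory CategoryTheory.Limits CategoryTheory.Abelian

namespace Groth.Agent.Sga2lef.H93.RdAdj

variable {C : Type u} [Category.{v} C] [Abelian C] [HasInjectiveResolutions C] [HasExt.{w} C]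
  {D : Type u'} [Category.{v'} D] [Abelian D] {F : D ⥤ C} {G : C ⥤ D} (adj : F ⊣ G) [G.Additive]

include adj in
/-- Vanishing of `(R^b G)(Y)` from the vanishing of `Ext^b(F Q, Y)`. -/
theorem isZero_rightDerived (b : ℕ) (Y : C) (h : ∀ (Q : D) (e : Ext.{w} (F.obj Q) Y b), e = 0) :
    IsZero ((G.rightDerived b).obj Y) := by
  let I := injectiveResolution Y
  refine IsZero.of_iso ?_ (I.isoRightDerivedObj G b)
  suffices h1 : ((G.mapHomologicalComplex (ComplexShape.up ℕ)).obj I.cocomplex).ExactAt b from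
    (HomologicalComplex.exactAt_iff_isZero_homology _ _).1 h1
  have h0 : ∀ (Q : D) (Z : C), adj.homEquiv Q Z 0 = 0 := fun Q Z => by
    rw [adj.homEquiv_unit, Functor.map_zero, comp_zero]
  have key : ∀ (Q : D) (z : Q ⟶ G.obj (I.cocomplex.X b)), z ≫ G.map (I.cocomplex.d b (b + 1)) = 0 →
      (∀ p : ℕ, p + 1 = b → ∃ g : Q ⟶ G.obj (I.cocomplex.X p), g ≫ G.map (I.cocomplex.d p b) = z) ∧
      (b = 0 → z = 0) := by
    intro Q z hz
    let z' : F.obj Q ⟶ I.cocomplex.X b := (adj.homEquiv _ _).symm z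
    have hzz : adj.homEquiv _ _ z' = z := (adj.homEquiv _ _).apply_symm_apply z
    have hz' : z' ≫ I.cocomplex.d b (b + 1) = 0 := by
      apply (adj.homEquiv _ _).injective
      rw [adj.homEquiv_naturality_right, hzz, hz, h0]
    have he := h Q (I.extMk z' (b + 1) rfl hz')
    constructor
    · intro p hp
      obtain ⟨g, hg⟩ := (I.extMk_eq_zero_iff z' (b + 1) rfl hz' p hp).1 he
      refine ⟨adj.homEquiv _ _ g, ?_⟩
      rw [← adj.homEquiv_naturality_right, hg, hzz]
    · intro hb
      subst hb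
      have h2 : z' ≫ I.cocomplex.d 0 1 = 0 := hz'
      have h4 : Mono (I.ι.f 0) := inferInstance
      have h6 : z' = 0 := by
        have h7 : I.exact₀.lift z' h2 ≫ I.ι.f 0 = z' := I.exact₀.lift_f z' h2
        have h5 : I.exact₀.lift z' h2 = 0 := by
          have := h Q (Ext.mk₀ (I.exact₀.lift z' h2))
          rwa [Ext.mk₀_eq_zero_iff] at this
        rw [← h7, h5, zero_comp]
      rw [← hzz, h6, h0]
  obtain _ | b := b
  · rw [HomologicalComplex.exactAt_iff' _ 0 0 1 (by simp) (by simp)]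
    rw [ShortComplex.exact_iff_exact_up_to_refinements]
    intro Q z hz
    have h5 : z = 0 := (key Q z hz).2 rfl
    exact ⟨Q, 𝟙 Q, inferInstance, 0, by rw [h5, comp_zero, zero_comp]⟩
  · rw [HomologicalComplex.exactAt_iff' _ b (b + 1) (b + 1 + 1) (by simp) (by simp)]
    rw [ShortComplex.exact_iff_exact_up_to_refinements]
    intro Q z hz
    obtain ⟨g, hg⟩ := (key Q z hz).1 b rfl
    exact ⟨Q, 𝟙 Q, inferInstance, g, by rw [Category.id_comp]; exact hg.symm⟩

end Groth.Agent.Sga2lef.H93.RdAdj
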