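import Groth.Agent.Sga4h.BidEtLocal
import Groth.Agent.Sga4h.BidRed538Main
import Groth.Agent.Sga4h.ExtD843
import Groth.Agent.Sga2lef.H93.AbsLD
import Groth.Agent.Sga2lef.H93.AbsDepth
import Groth.Agent.Sga2lef.H93.RdAdj

/-!
# Local duality vanishing for etale sheaves of modules

`j : W ⟶ X` an open immersion, `A` a duality datum on `X` whose dualizing complex is a resolution of the constant
sheaf `Λ`.  If `Ext^b(P, Λ) = 0` for `b < c` and all `P` with `P|W = 0`, if `G` is reflexive and the cohomology sheaves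
of `D(G)` in degrees `> m` are supported in `W`, then `Ext^i(P, G) = 0` for `i < c - m` and all `P` with `P|W = 0`.
-/

set_option autoImplicit false

universe u

open CategoryTheory CategoryTheory.Limits AlgebraicGeometry Opposite

attribute [local instance 5000] CategoryTheory.Abelian.toPreadditive
  CategoryTheory.Preadditive.preadditiveHasZeroMorphisms

attribute [-instance] Int.instConditionallyCompleteLinearOrder
namespace Groth.Agent.Sga2lef.H93.LDEt

attribute [local instance] HasDerivedCategory.standard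
open scoped Groth.Agent.Sga4h.ModInst
open Groth.Agent.Sga4h.Refl Groth.Agent.Sga4h.BidEtSh Groth.Agent.Sga4h.ModDTensor
open Groth.Agent.Sga2lef.H93.AbsDepth

variable {Λ : Type (u + 1)} [CommRing Λ] {X W : Scheme.{u}} (j : W ⟶ X) [Etale j]

/-- A tensor product with a sheaf which vanishes on `W` vanishes on `W`. -/
theorem isZero_res_tensor (P Q : EtModW.Mod Λ X) (hP : IsZero ((resM Λ j).obj P)) :
    IsZero ((resM Λ j).obj (((EtModD.tensorBi Λ X).obj P).obj Q)) :=
  (((EtModD.tensorBi Λ W).map_isZero hP).obj ((resM Λ j).obj Q)).of_iso (tauIso Λ j P Q).symm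

/-- The dual of `P[0]` is in degrees `≥ c`. -/
theorem isGE_D (J : CochainComplex (EtModW.Mod Λ X) ℤ) (hJ : J.IsKInjective) (hJ' : ∀ n, Injective (J.X n))
    {H : EtModW.Mod Λ X} (i : (CochainComplex.singleFunctor (EtModW.Mod Λ X) 0).obj H ⟶ J) (hi : QuasiIso i) (c : ℕ)
    (hc : ExtDep.{u + 1} (resM Λ j) c H) (P : EtModW.Mod Λ X) (hP : IsZero ((resM Λ j).obj P)) :
    (DerivedCategory.Q.obj ((Groth.Agent.Sga4h.DualEt.dualData J hJ hJ').D 
      ((CochainComplex.singleFunctor (EtModW.Mod Λ X) 0).obj P))).IsGE c := by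
  rw [DerivedCategory.isGE_Q_obj_iff, CochainComplex.isGE_iff]
  intro b hb
  have hP' : EtModD.HasSheafHom P := hasSheafHom P
  by_cases hb0 : b < 0
  · exact Groth.Agent.Sga4h.ExtD843.exactAt_of_neg_D hJ hJ' i P b hb0
  · obtain ⟨n, rfl⟩ : ∃ n : ℕ, b = n := ⟨b.toNat, by lia⟩
    rw [HomologicalComplex.exactAt_iff_isZero_homology]
    obtain ⟨e⟩ := Groth.Agent.Sga4h.ExtD843.nonempty_homology_D hJ hJ' i P n n rfl
    refine IsZero.of_iso ?_ e
    exact RdAdj.isZero_rightDerived.{u + 1} (EtModD.sheafHomAdj P) n H (fun Q e =>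
      hc _ (isZero_res_tensor j P Q hP) n (by lia) e)

/-- The dual of `P[0]` vanishes on `W` if `P` does. -/
theorem isZero_res_D (A : DualData (EtModD.tensorBi Λ X))
    (i : (CochainComplex.singleFunctor (EtModW.Mod Λ X) 0).obj (EtModW.constMod Λ X Λ) ⟶ A.J) (hi : QuasiIso i)
    (A' : DualData (EtModD.tensorBi Λ W))
    (i' : (CochainComplex.singleFunctor (EtModW.Mod Λ W) 0).obj (EtModW.constMod Λ W Λ) ⟶ A'.J)
    (hi' : QuasiIso i') (P : EtModW.Mod Λ X) (hP : IsZero ((resM Λ j).obj P)) :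
    IsZero ((resM Λ j).mapDerivedCategory.obj (DerivedCategory.Q.obj
      (A.D ((CochainComplex.singleFunctor (EtModW.Mod Λ X) 0).obj P)))) :=
  AbsLD.isZero_res_D A A' P hP (Groth.Agent.Sga4h.BidEtLocal.nonempty_iso_Q_res_D j A i hi A' i' hi'
    ((CochainComplex.singleFunctor (EtModW.Mod Λ X) 0).obj P))

/-- **Local duality vanishing**: if `Ext^b(P, Λ) = 0` for `b < c` and all `P` with `P|W = 0`, if `G` is reflexive and
the cohomology sheaves of `D(G)` in degrees `> m` are supported in `W`, then `Ext^i(P, G) = 0` for `i < n ≤ c - m` and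
all `P` with `P|W = 0`. -/
theorem extDep_of_refl (J : CochainComplex (EtModW.Mod Λ X) ℤ) (hJ : J.IsKInjective)
    (hJ' : ∀ n, Injective (J.X n))
    (i : (CochainComplex.singleFunctor (EtModW.Mod Λ X) 0).obj (EtModW.constMod Λ X Λ) ⟶ J) (hi : QuasiIso i)
    (A' : DualData (EtModD.tensorBi Λ W))
    (i' : (CochainComplex.singleFunctor (EtModW.Mod Λ W) 0).obj (EtModW.constMod Λ W Λ) ⟶ A'.J)
    (hi' : QuasiIso i') (G : EtModW.Mod Λ X)
    (hG : (Groth.Agent.Sga4h.DualEt.dualData J hJ hJ').Refl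
      ((CochainComplex.singleFunctor (EtModW.Mod Λ X) 0).obj G)) (m c n : ℕ) (hn : n + m ≤ c)
    (hM : ∀ b : ℤ, m < b → IsIso ((adjM Λ j).counit.app
      (((Groth.Agent.Sga4h.DualEt.dualData J hJ hJ').D
        ((CochainComplex.singleFunctor (EtModW.Mod Λ X) 0).obj G)).homology b)))
    (hc : ExtDep.{u + 1} (resM Λ j) c (EtModW.constMod Λ X Λ)) : ExtDep.{u + 1} (resM Λ j) n G :=
  AbsLD.extDep_of_refl (adjM Λ j) (Groth.Agent.Sga4h.DualEt.dualData J hJ hJ') G hG m c n hn hM
    (fun P hP => isGE_D j J hJ hJ' i hi c hc P hP)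
    (fun P hP => isZero_res_D j (Groth.Agent.Sga4h.DualEt.dualData J hJ hJ') i hi A' i' hi' P hP)

end Groth.Agent.Sga2lef.H93.LDEt
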