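import Groth.Agent.Sga2lef.H93.FTLoc
import Groth.Agent.Sga2lef.H93.ClosedCon
import Groth.Agent.Sga2lef.H93.ReflSm
import Groth.Agent.Sga4B.SemiPurity2
import Groth.Agent.Sga4h.ModConstFT
import Groth.Agent.Sga4h.BidRed538Ext
import Groth.Agent.Sga4h.Dbc323

/-!
# Depth of closed subschemes of smooth schemes: the local theorem

`X` smooth over a separably closed field `k`, `n ≠ 0` in `k`, `Y` closed in `X` with complement `U`, `Z` closed in `X`
of codimension `≥ c`; if the stalks of `R^b u_* ℤ/n` at the points of `Z` vanish for `b ≥ c + q`, then the depth of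
`ℤ/n` on `Y` along `Z ∩ Y` is `≥ c - q`.
-/

set_option autoImplicit false
universe u

open CategoryTheory CategoryTheory.Limits AlgebraicGeometry Opposite

attribute [local instance 5000] CategoryTheory.Abelian.toPreadditive
  CategoryTheory.Preadditive.preadditiveHasZeroMorphisms

attribute [-instance] Int.instConditionallyCompleteLinearOrder

namespace Groth.Agent.Sga2lef.H93.LocFT

attribute [local instance] HasDerivedCategory.standard
open scoped Groth.Agent.Sga4h.ModInst
open Groth.Agent.Etrest.ModAb Groth.Agent.Etcore.LFree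

/-- `Λ[U]` is constructible. -/
theorem isConstructible_LM (Λ : Type (u + 1)) [CommRing Λ] [Finite Λ] {X : Scheme.{u}} [IsNoetherian X]
    (U : X.Opens) : EtModW.IsConstructible Λ (LM Λ (Scheme.Etale.mk U.ι)) := by
  have : IsNoetherianRing Λ := inferInstance
  obtain ⟨e⟩ := ModTr.nonempty_LM_iso_ext Λ U.ι
  have hc : CompactSpace U :=
    isCompact_iff_compactSpace.1 (TopologicalSpace.NoetherianSpace.isCompact (U : Set X))
  refine Etrest.ModCons.isConstructible_of_iso e.symm ?_
  exact Sga4h.BidRed538Ext.isConstructible_ext U.ι _ (Sga4h.ModConstFT.isConstructible_const Λ)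

/-- Reflexivity of `Λ[U]`. -/
theorem refl_LM (k : Type u) [Field k] [IsSepClosed k] (m : ℕ) (hm : (m : k) ≠ 0)
    {X : Scheme.{u}} [IsNoetherian X] (a : X ⟶ Spec (CommRingCat.of k)) [Smooth a] (U : X.Opens) :
    (Groth.Agent.Sga4h.BidRed538Main.stdDual (ULift.{u + 1} (ZMod m)) X).Refl
      ((CochainComplex.singleFunctor (EtModW.Mod (ULift.{u + 1} (ZMod m)) X) 0).obj
        (LM (ULift.{u + 1} (ZMod m)) (Scheme.Etale.mk U.ι))) := by
  have hm0 : 0 < m := Nat.pos_of_ne_zero fun h => hm (by rw [h, Nat.cast_zero])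
  have : NeZero m := ⟨hm0.ne'⟩
  have : Finite (ULift.{u + 1} (ZMod m)) := inferInstance
  exact ReflSm.refl_of_isDbc k m hm a _ ((Sga4h.Dbc323.isDbc_Q_single_iff _ 0).2 (isConstructible_LM _ U))

/-- The constant sheaf, its underlying abelian sheaf. -/
noncomputable def abConst (n : ℕ) (X : Scheme.{u}) :
    (ab (ULift.{u + 1} (ZMod n)) X).obj
      (EtModW.constMod (ULift.{u + 1} (ZMod n)) X (ULift.{u + 1} (ZMod n))) ≅
      EtCoh.const X (ZMod n) :=
  (constIso (ULift.{u + 1} (ZMod n)) X).app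
    (ModuleCat.of (ULift.{u + 1} (ZMod n)) (ULift.{u + 1} (ZMod n)))

/-- **Depth of closed subschemes of smooth schemes.** -/
theorem depthGE (k : Type u) [Field k] [IsSepClosed k] (n : ℕ) (hn : (n : k) ≠ 0) {X : Scheme.{u}}
    [IsNoetherian X] (a : X ⟶ Spec (CommRingCat.of k)) [Smooth a] {Y W V : Scheme.{u}} (i : Y ⟶ X)
    [IsClosedImmersion i] (j : W ⟶ X) [IsOpenImmersion j] (i' : V ⟶ W) (j' : V ⟶ Y) (h : IsPullback j' i' i j)
    (U : X.Opens) (hU : (U : Set X) = (Set.range i)ᶜ) (c q : ℕ)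
    (hY : ∀ x : X, x ∉ Set.range j → (c : WithBot ℕ∞) ≤ ringKrullDim (X.presheaf.stalk x))
    (hR : ∀ b : ℕ, c + q ≤ b → ∀ x : X, x ∉ Set.range j →
      x ∉ EtPBC.supp ((EtCoh.Rpush U.ι b).obj (EtCoh.const U (ZMod n)))) :
    EtDepth.DepthGE j' (EtCoh.const Y (ZMod n)) (c - q) := by
  by_cases hcq : c ≤ q
  · intro p hp
    exfalso
    lia
  have hj' : IsOpenImmersion j' := MorphismProperty.of_isPullback h.flip inferInstance
  rw [DepthCon.depthGE_iff_con, ClosedCon.con_push_closed_iff i j i' j' h]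
  refine FTLoc.con_closed j (ZMod n) (abConst n X) i U hU (abConst n U) (refl_LM k n hn a U) (c + q - 1)
    (2 * c) (c - q) (by lia) ?_ (fun b hb => hR b (by lia))
  rw [← DepthCon.depthGE_iff_con]
  exact fun p hp => Sga4B.SemiPurity.isZero_locCoh_const_smooth a j c hY n hn p hp

end Groth.Agent.Sga2lef.H93.LocFT
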