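import Groth.Agent.Etcore.MVEt
import Groth.Agent.EtpbcA.ArtinTransfer

/-!
# Mayer-Vietoris vanishing for cohomology and for the stalks of higher direct images

* `subsingleton_H`: `H^{n+1}(X, F) = 0` if `X = U ∪ V`, `H^{n+1}` of `U`, `V` and `H^n` of `U ∩ V` vanish;
* `not_mem_supp_union`: the same for stalks of `R^n d_*`, `d` the inclusion of a union of two open subschemes.
-/

set_option autoImplicit false
universe u

open CategoryTheory CategoryTheory.Limits CategoryTheory.Abelian AlgebraicGeometry Opposite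

namespace Groth.Agent.Sga2lef.H93.MVCoh

open Groth.Agent.EtpbcB Groth.Agent.Etcore.MVShriek

variable {U V W X D T : Scheme.{u}}

/-- Vanishing of cohomology by Mayer-Vietoris. -/
theorem subsingleton_H (j : U ⟶ X) (k : V ⟶ X) (w : W ⟶ X) [IsOpenImmersion j] [IsOpenImmersion k]
    [IsOpenImmersion w] (hjk : Set.range w = Set.range j ∩ Set.range k)
    (hcov : Set.range j ∪ Set.range k = Set.univ) (F : EtCoh.Ab X) (n : ℕ)
    (h1 : Subsingleton (EtCoh.H U ((EtCoh.pull j).obj F) (n + 1)))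
    (h2 : Subsingleton (EtCoh.H V ((EtCoh.pull k).obj F) (n + 1)))
    (h3 : Subsingleton (EtCoh.H W ((EtCoh.pull w).obj F) n)) : Subsingleton (EtCoh.H X F (n + 1)) := by
  have hj : PreservesFiniteLimits (EtCoh.pull j) := S0101.result j
  have hk : PreservesFiniteLimits (EtCoh.pull k) := S0101.result k
  have hw : PreservesFiniteLimits (EtCoh.pull w) := S0101.result w
  have hS := shortExact_mv j k w hjk (EtCoh.const X ℤ) hcov
  have e1 := Etcore.MVEt.ψ j F (n + 1)
  have e2 := Etcore.MVEt.ψ k F (n + 1)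
  have e3 := Etcore.MVEt.ψ w F n
  have h1' : Subsingleton (Ext.{u + 1} (P j (EtCoh.const X ℤ)) F (n + 1)) := e1.toEquiv.subsingleton
  have h2' : Subsingleton (Ext.{u + 1} (P k (EtCoh.const X ℤ)) F (n + 1)) := e2.toEquiv.subsingleton
  have h3' : Subsingleton (Ext.{u + 1} (P w (EtCoh.const X ℤ)) F n) := e3.toEquiv.subsingleton
  have key : ∀ e : Ext.{u + 1} (EtCoh.const X ℤ) F (n + 1), e = 0 := by
    intro e
    have h4 : (Ext.mk₀ (biprod.desc (c j (EtCoh.const X ℤ)) (c k (EtCoh.const X ℤ)))).comp e (zero_add _) = 0 := by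
      have hbi : ∀ x : Ext.{u + 1} (P j (EtCoh.const X ℤ) ⊞ P k (EtCoh.const X ℤ)) F (n + 1), x = 0 := by
        intro x
        have h5 : x = (Ext.mk₀ (𝟙 (P j (EtCoh.const X ℤ) ⊞ P k (EtCoh.const X ℤ)))).comp x (zero_add _) := by
          rw [Ext.mk₀_id_comp]
        have h6 : (Ext.mk₀ (biprod.inl : P j (EtCoh.const X ℤ) ⟶ P j (EtCoh.const X ℤ) ⊞ P k (EtCoh.const X ℤ))).comp x
            (zero_add _) = 0 := Subsingleton.elim _ _
        have h7 : (Ext.mk₀ (biprod.inr : P k (EtCoh.const X ℤ) ⟶ P j (EtCoh.const X ℤ) ⊞ P k (EtCoh.const X ℤ))).comp x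
            (zero_add _) = 0 := Subsingleton.elim _ _
        rw [h5, ← biprod.total, Ext.mk₀_add, Ext.add_comp, ← Ext.mk₀_comp_mk₀, ← Ext.mk₀_comp_mk₀,
          Ext.comp_assoc_of_second_deg_zero, Ext.comp_assoc_of_second_deg_zero, h6, h7, Ext.comp_zero,
          Ext.comp_zero, add_zero]
      exact hbi _
    obtain ⟨y, hy⟩ := Ext.contravariant_sequence_exact₃ hS F e h4 (Nat.add_comm 1 n)
    rw [← hy, Subsingleton.elim y 0, Ext.comp_zero]
  exact ⟨fun a b => (key a).trans (key b).symm⟩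

/-- `Van` for sheaves restricted from `X`. -/
theorem van_iff' {P : Scheme.{u}} {j : U ⟶ X} {t : T ⟶ X} {p : P ⟶ U} {r : P ⟶ T}
    (h : IsPullback p r j t) {q : P ⟶ X} (hq : p ≫ j = q) (F : EtCoh.Ab X) (n : ℕ) :
    PBCVan.Van j t ((EtCoh.pull j).obj F) n ↔ Subsingleton (EtCoh.H P ((EtCoh.pull q).obj F) n) := by
  rw [PBCVan.van_iff h]
  exact (IsoTransport.HPullComp p j q hq F n).toEquiv.symm.subsingleton_congr

theorem van_lift {D' : Scheme.{u}} {d : D ⟶ X} {t : T ⟶ X} {f : D' ⟶ D} {g : D' ⟶ T}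
    (h : IsPullback f g d t) (j : U ⟶ X) (a : U ⟶ D) (ha : a ≫ d = j) (F : EtCoh.Ab X) (n : ℕ) :
    PBCVan.Van j t ((EtCoh.pull j).obj F) n ↔
      Subsingleton (EtCoh.H (pullback f a) ((EtCoh.pull (pullback.fst f a)).obj ((EtCoh.pull (f ≫ d)).obj F)) n) := by
  have h1 : IsPullback (pullback.snd f a) (pullback.fst f a) a f := (IsPullback.of_hasPullback f a).flip
  have h2 : IsPullback (pullback.snd f a) (pullback.fst f a ≫ g) (a ≫ d) t := h1.paste_vert h
  rw [ha] at h2
  have h3 : pullback.fst f a ≫ f ≫ d = pullback.snd f a ≫ j := by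
    rw [← ha, ← Category.assoc, ← Category.assoc, pullback.condition]
  rw [van_iff' h2 rfl F n]
  exact (IsoTransport.HPullComp (pullback.fst f a) (f ≫ d) (pullback.snd f a ≫ j) h3 F n).toEquiv.subsingleton_congr

/-- Mayer-Vietoris for `Van`. -/
theorem van_union (t : T ⟶ X) (j : U ⟶ X) (k : V ⟶ X) (w : W ⟶ X) (d : D ⟶ X) [IsOpenImmersion j]
    [IsOpenImmersion k] [IsOpenImmersion w] [IsOpenImmersion d]
    (hjk : Set.range w = Set.range j ∩ Set.range k) (hd : Set.range d = Set.range j ∪ Set.range k)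
    (F : EtCoh.Ab X) (n : ℕ) (h1 : PBCVan.Van j t ((EtCoh.pull j).obj F) (n + 1))
    (h2 : PBCVan.Van k t ((EtCoh.pull k).obj F) (n + 1))
    (h3 : PBCVan.Van w t ((EtCoh.pull w).obj F) n) : PBCVan.Van d t ((EtCoh.pull d).obj F) (n + 1) := by
  have hjd : Set.range j ⊆ Set.range d := by rw [hd]; exact Set.subset_union_left
  have hkd : Set.range k ⊆ Set.range d := by rw [hd]; exact Set.subset_union_right
  have hwd : Set.range w ⊆ Set.range d := by
    rw [hjk]; exact Set.inter_subset_left.trans hjd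
  let a := IsOpenImmersion.lift d j hjd
  let b := IsOpenImmersion.lift d k hkd
  let c := IsOpenImmersion.lift d w hwd
  have ha : a ≫ d = j := IsOpenImmersion.lift_fac _ _ _
  have hb : b ≫ d = k := IsOpenImmersion.lift_fac _ _ _
  have hc : c ≫ d = w := IsOpenImmersion.lift_fac _ _ _
  have : IsOpenImmersion (a ≫ d) := by rw [ha]; infer_instance
  have ha' : IsOpenImmersion a := IsOpenImmersion.of_comp a d
  have : IsOpenImmersion (b ≫ d) := by rw [hb]; infer_instance
  have hb' : IsOpenImmersion b := IsOpenImmersion.of_comp b d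
  have : IsOpenImmersion (c ≫ d) := by rw [hc]; infer_instance
  have hc' : IsOpenImmersion c := IsOpenImmersion.of_comp c d
  have hP := IsPullback.of_hasPullback d t
  have hinj : Function.Injective d := d.isOpenEmbedding.injective
  have hra : ∀ x : D, x ∈ Set.range a ↔ d x ∈ Set.range j := by
    intro x
    constructor
    · rintro ⟨y, rfl⟩
      exact ⟨y, by rw [← ha]; rfl⟩
    · rintro ⟨y, hy⟩
      refine ⟨y, hinj ?_⟩
      rw [← hy, ← ha]; rfl
  have hrb : ∀ x : D, x ∈ Set.range b ↔ d x ∈ Set.range k := by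
    intro x
    constructor
    · rintro ⟨y, rfl⟩
      exact ⟨y, by rw [← hb]; rfl⟩
    · rintro ⟨y, hy⟩
      refine ⟨y, hinj ?_⟩
      rw [← hy, ← hb]; rfl
  have hrc : ∀ x : D, x ∈ Set.range c ↔ d x ∈ Set.range w := by
    intro x
    constructor
    · rintro ⟨y, rfl⟩
      exact ⟨y, by rw [← hc]; rfl⟩
    · rintro ⟨y, hy⟩
      refine ⟨y, hinj ?_⟩
      rw [← hy, ← hc]; rfl
  have key : ∀ {A : Scheme.{u}} (a : A ⟶ D) [IsOpenImmersion a],
      Set.range (pullback.fst (pullback.fst d t) a) = (pullback.fst d t) ⁻¹' (Set.range a) := by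
    intro A a _
    exact IsOpenImmersion.range_pullbackFst _ _
  rw [van_iff' hP rfl]
  rw [van_lift hP j a ha] at h1
  rw [van_lift hP k b hb] at h2
  rw [van_lift hP w c hc] at h3
  refine subsingleton_H (pullback.fst (pullback.fst d t) a) (pullback.fst (pullback.fst d t) b)
    (pullback.fst (pullback.fst d t) c) ?_ ?_ _ n h1 h2 h3
  · rw [key, key, key]
    ext x
    simp only [Set.mem_preimage, Set.mem_inter_iff, hra, hrb, hrc, hjk]
  · rw [key, key]
    ext x
    simp only [Set.mem_preimage, Set.mem_union, hra, hrb, Set.mem_univ, iff_true]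
    have : d (pullback.fst d t x) ∈ Set.range d := ⟨_, rfl⟩
    rwa [hd] at this

/-- Mayer-Vietoris for stalks of higher direct images. -/
theorem not_mem_supp_union (j : U ⟶ X) (k : V ⟶ X) (w : W ⟶ X) (d : D ⟶ X) [IsOpenImmersion j]
    [IsOpenImmersion k] [IsOpenImmersion w] [IsOpenImmersion d] [QuasiCompact j] [QuasiCompact k]
    [QuasiCompact w] [QuasiCompact d]
    (hjk : Set.range w = Set.range j ∩ Set.range k) (hd : Set.range d = Set.range j ∪ Set.range k)
    (F : EtCoh.Ab X) (n : ℕ) (x : X)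
    (h1 : x ∉ EtPBC.supp ((EtCoh.Rpush j (n + 1)).obj ((EtCoh.pull j).obj F)))
    (h2 : x ∉ EtPBC.supp ((EtCoh.Rpush k (n + 1)).obj ((EtCoh.pull k).obj F)))
    (h3 : x ∉ EtPBC.supp ((EtCoh.Rpush w n).obj ((EtCoh.pull w).obj F))) :
    x ∉ EtPBC.supp ((EtCoh.Rpush d (n + 1)).obj ((EtCoh.pull d).obj F)) := by
  obtain ⟨R, _, _, _, _, hR⟩ := S0537.result (X.presheaf.stalk x)
  rw [EtpbcA.Artin.not_mem_supp_Rpush_iff _ _ _ x R] at h1 h2 h3 ⊢
  exact van_union _ j k w d hjk hd F n h1 h2 h3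

end Groth.Agent.Sga2lef.H93.MVCoh
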